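import Groth.Agent.ModelsGraphs.PicDiv.RootAlg
import Groth.Agent.VarietyBC.PicGlue
import Groth.Agent.Abvar.PicCalc

/-!
# Roots of invertible classes along finite maps which are isomorphisms off a finite set
-/

set_option autoImplicit false
set_option linter.style.haveILetI false

universe u

open CategoryTheory CategoryTheory.Limits AlgebraicGeometry TopologicalSpace Opposite
open Groth.PicAux
open Groth.VarietyBC.PicGlue (toPieces)
open scoped Groth.Abvar.PicCalc

set_option maxHeartbeats 1600000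
set_option backward.isDefEq.respectTransparency false
set_option backward.defeqAttrib.useBackward true
set_option backward.isDefEq.respectTransparency.types false

namespace Groth.ModelsGraphs.PicDiv

variable {Y : Scheme.{u}} {κ : Type u} [Fintype κ] {W : κ → Scheme.{u}} (ν : ∀ i, W i ⟶ Y)
  [∀ i, IsFinite (ν i)]

/-- A simultaneous basis of finitely many invertible modules near the fibre of a point. -/
theorem exists_gens (N : ∀ i, (W i).Modules) (hN : ∀ i, PicF.IsInvertible (N i)) {V : Y.Opens}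
    (hV : IsAffineOpen V) {x : Y} (hx : x ∈ V) :
    ∃ (O : Y.Opens), IsAffineOpen O ∧ x ∈ O ∧ O ≤ V ∧
      ∀ i, ∃ e : Γ(N i, ν i ⁻¹ᵁ O), Gen (N i) (ν i ⁻¹ᵁ O) e := by
  classical
  have h1 : ∀ i, ∃ (O : (W i).Opens) (e : Γ(N i, O)), (ν i).base ⁻¹' {x} ⊆ O ∧ Gen (N i) O e := by
    intro i
    obtain ⟨O, e, hO, -, he⟩ := Groth.VarietyBC.PicGlue.exists_gen_finite (hN i) (A := ν i ⁻¹ᵁ V)
      (hV.preimage (ν i)) _ ((ν i).finite_preimage_singleton x)
      (fun w hw => show (ν i).base w ∈ V from (Set.mem_singleton_iff.1 hw).symm ▸ hx)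
      (fun s hs t ht hst => by
        haveI : DiscreteTopology ↥((ν i).base ⁻¹' {x}) :=
          isDiscrete_iff_discreteTopology.1 ((ν i).isDiscrete_preimage_singleton x)
        have : (⟨s, hs⟩ : ↥((ν i).base ⁻¹' {x})) ⤳ ⟨t, ht⟩ := (subtype_specializes_iff _ _).2 hst
        exact congrArg Subtype.val this.eq)
    exact ⟨O, e, hO, he⟩
  choose O e hO he using h1
  let C : Set Y := ⋃ i, (ν i).base '' ((O i : Set (W i))ᶜ)
  have hC : IsClosed C := isClosed_iUnion_of_finite fun i =>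
    (ν i).isClosedMap _ (O i).isOpen.isClosed_compl
  have hxC : x ∉ C := by
    rintro hxC
    obtain ⟨i, w, hw, hwx⟩ := Set.mem_iUnion.1 hxC
    exact hw (hO i hwx)
  obtain ⟨O', hO', hxO', hle⟩ := exists_isAffineOpen_mem_and_subset (U := V ⊓ ⟨Cᶜ, hC.isOpen_compl⟩)
    (x := x) ⟨hx, hxC⟩
  refine ⟨O', hO', hxO', fun z hz => (hle hz).1, fun i => ?_⟩
  have hle' : ν i ⁻¹ᵁ O' ≤ O i := fun w hw => by
    by_contra hw'
    exact (hle hw).2 (Set.mem_iUnion.2 ⟨i, w, hw', rfl⟩)
  exact ⟨res _ hle' (e i), (he i).res hle'⟩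

variable {k : Type u} [Field k] [IsAlgClosed k] (f : Y ⟶ Spec (CommRingCat.of k)) [LocallyOfFiniteType f]
  (S : Set Y) (hb : ∀ V : Y.Opens, (∀ x ∈ V, x ∉ S) → Function.Bijective (toPieces ν V))
  (hinj : ∀ V : Y.Opens, Function.Injective (toPieces ν V))

include f hb hinj in
/-- Near a point, units upstairs are functions up to `q`-th powers of units. -/
theorem exists_adjust (q : ℕ) (hq : (q : k) ≠ 0) {V : Y.Opens} (hV : IsAffineOpen V) {x : Y} (hx : x ∈ V)
    (hxS : x ∈ S → IsClosed ({x} : Set Y)) (hVS : ∀ y ∈ V, y ∈ S → y = x)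
    (u : ∀ i, Γ(W i, ν i ⁻¹ᵁ V)) (hu : ∀ i, IsUnit (u i)) :
    ∃ (O : Y.Opens) (hOV : O ≤ V) (r : Γ(Y, O)) (g : ∀ i, Γ(W i, ν i ⁻¹ᵁ O)),
      x ∈ O ∧ IsUnit r ∧ (∀ i, IsUnit (g i)) ∧
      ∀ i, (ν i).app O r = g i ^ q * resX (W i) ((ν i).preimage_mono hOV) (u i) := by
  classical
  by_cases hS : x ∈ S
  swap
  · have hVS' : ∀ y ∈ V, y ∉ S := fun y hy hyS => hS (hVS y hy hyS ▸ hyS)
    obtain ⟨r, hr⟩ := (hb V hVS').2 u
    obtain ⟨r', hr'⟩ := (hb V hVS').2 fun i => ((hu i).unit⁻¹ : (Γ(W i, ν i ⁻¹ᵁ V))ˣ).1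
    have hru : IsUnit r := IsUnit.of_mul_eq_one (a := r) r' ((hinj V) (funext fun i => by
      simp only [toPieces, map_mul, map_one]
      rw [show (ν i).app V r = u i from congrFun hr i, show (ν i).app V r' = _ from congrFun hr' i]
      exact (hu i).mul_val_inv))
    refine ⟨V, le_rfl, r, fun _ => 1, hx, hru, fun _ => isUnit_one, fun i => ?_⟩
    rw [one_pow, one_mul, resX_self]
    exact congrFun hr i
  haveI hxc := hxS hS
  let A := Γ(Y, V)
  let B := ∀ i, Γ(W i, ν i ⁻¹ᵁ V)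
  letI : Algebra A B := (Pi.ringHom fun i => ((ν i).app V).hom).toAlgebra
  letI : ∀ i, Algebra A Γ(W i, ν i ⁻¹ᵁ V) := fun i => ((ν i).app V).hom.toAlgebra
  haveI : ∀ i, Module.Finite A Γ(W i, ν i ⁻¹ᵁ V) := fun i => IsFinite.finite_app (f := ν i) V hV
  haveI : Module.Finite A B := Module.Finite.equiv
    (LinearEquiv.refl A (∀ i, Γ(W i, ν i ⁻¹ᵁ V)))
  letI : Algebra k A :=
    (((Scheme.ΓSpecIso (CommRingCat.of k)).inv ≫ f.appLE ⊤ V (by simp)).hom).toAlgebra
  haveI : Algebra.FiniteType k A := by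
    have h1 := f.finiteType_appLE (isAffineOpen_top _) hV (show V ≤ f ⁻¹ᵁ ⊤ by simp)
    have h2 : (Scheme.ΓSpecIso (CommRingCat.of k)).inv.hom.FiniteType :=
      RingHom.FiniteType.of_surjective _
        (Scheme.ΓSpecIso (CommRingCat.of k)).symm.commRingCatIsoToRingEquiv.surjective
    exact (h1.comp h2 :)
  let p := hV.primeIdealOf ⟨x, hx⟩
  haveI hpmax : p.asIdeal.IsMaximal := by
    rw [← PrimeSpectrum.isClosed_singleton_iff_isMaximal]
    have he : ({p} : Set (PrimeSpectrum Γ(Y, V))) = hV.fromSpec.base ⁻¹' {x} := Set.ext fun z =>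
      ⟨fun h => by
        rw [Set.mem_singleton_iff] at h
        subst h
        exact hV.fromSpec_primeIdealOf ⟨x, hx⟩,
      fun h => hV.fromSpec.isEmbedding.injective ((show hV.fromSpec.base z = x from h).trans
        (hV.fromSpec_primeIdealOf ⟨x, hx⟩).symm)⟩
    rw [he]
    exact hxc.preimage hV.fromSpec.continuous
  have hmem : ∀ a : A, x ∈ Y.basicOpen a ↔ a ∉ p.asIdeal := fun a =>
    Groth.VarietyBC.AffineUnion.mem_basicOpen_iff hV x hx a
  have hloc : ∀ a ∈ p.asIdeal, ∀ b : B, ∃ (n : ℕ) (a' : A), algebraMap A B a' = a ^ n • b := by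
    intro a ha b
    have hDS : ∀ y ∈ Y.basicOpen a, y ∉ S := fun y hy hyS => by
      have := hVS y (Y.basicOpen_le a hy) hyS
      exact (hmem a).1 (this ▸ hy) ha
    obtain ⟨c, hc⟩ := (hb _ hDS).2 fun i => resX (W i) ((ν i).preimage_mono (Y.basicOpen_le a)) (b i)
    haveI := hV.isLocalization_basicOpen a
    obtain ⟨n, a', ha'⟩ := IsLocalization.Away.surj a c
    have key : ∀ i, ∃ m : ℕ, ((ν i).app V a) ^ m * ((ν i).app V a') =
        ((ν i).app V a) ^ m * (((ν i).app V a) ^ n * b i) := by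
      intro i
      haveI := (hV.preimage (ν i)).isLocalization_basicOpen ((ν i).app V a)
      have hres : resX (W i) ((W i).basicOpen_le ((ν i).app V a)) ((ν i).app V a') =
          resX (W i) ((W i).basicOpen_le ((ν i).app V a)) (((ν i).app V a) ^ n * b i) := by
        have heq : (W i).basicOpen ((ν i).app V a) = ν i ⁻¹ᵁ Y.basicOpen a :=
          ((ν i).preimage_basicOpen a).symm
        have h1 : (ν i).app (Y.basicOpen a) (c * resX Y (Y.basicOpen_le a) a ^ n) =
            (ν i).app (Y.basicOpen a) (resX Y (Y.basicOpen_le a) a') := congrArg _ ha'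
        rw [map_mul, map_pow, show (ν i).app (Y.basicOpen a) c = _ from congrFun hc i,
          Groth.VarietyBC.PicGlue.resX_app ν, Groth.VarietyBC.PicGlue.resX_app ν] at h1
        have h2 := congrArg (resX (W i) heq.le) h1
        simp only [map_mul, map_pow, resX_resX] at h2
        rw [map_mul, map_pow, mul_comm]
        exact h2.symm
      obtain ⟨⟨_, m, rfl⟩, hm⟩ := (IsLocalization.eq_iff_exists (Submonoid.powers ((ν i).app V a))
        Γ(W i, (W i).basicOpen ((ν i).app V a))).1 hres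
      exact ⟨m, hm⟩
    choose m hm using key
    refine ⟨(∑ i, m i) + n, a ^ (∑ i, m i) * a', funext fun i => ?_⟩
    show (ν i).app V (a ^ (∑ i, m i) * a') = (ν i).app V (a ^ ((∑ i, m i) + n)) * b i
    obtain ⟨d, hd⟩ := Nat.exists_eq_add_of_le (Finset.single_le_sum (fun j _ => Nat.zero_le (m j)) (Finset.mem_univ i))
    rw [map_mul, map_pow, map_pow, hd, pow_add, pow_add, pow_add]
    calc _ = ((ν i).app V a) ^ d * (((ν i).app V a) ^ m i * (ν i).app V a') := by ring
      _ = _ := by rw [hm i]; ring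
  obtain ⟨g, hg, ⟨r, hr⟩⟩ := exists_root_mod p.asIdeal hloc q hq (fun i => u i)
    (Pi.isUnit_iff.2 hu)
  have hfib : ∀ i (w : W i) (hw : (ν i).base w = x),
      w ∈ (W i).basicOpen (g i) := by
    intro i w hw
    have hwV : w ∈ ν i ⁻¹ᵁ V := show (ν i).base w ∈ V from hw ▸ hx
    let ev : B →+* (W i).presheaf.stalk w :=
      ((W i).presheaf.germ (ν i ⁻¹ᵁ V) w hwV).hom.comp (Pi.evalRingHom _ i)
    let P : Ideal B := (IsLocalRing.maximalIdeal _).comap ev
    have hgP : g ∉ P := hg P (Ideal.IsPrime.comap ev) (Ideal.map_le_iff_le_comap.2 fun a ha => by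
      show (W i).presheaf.germ (ν i ⁻¹ᵁ V) w hwV ((ν i).app V a) ∈ IsLocalRing.maximalIdeal _
      by_contra hcon
      rw [IsLocalRing.mem_maximalIdeal, mem_nonunits_iff, not_not, ← Scheme.mem_basicOpen,
        ← (ν i).preimage_basicOpen] at hcon
      exact (hmem a).1 (hw ▸ hcon) ha)
    rw [Scheme.mem_basicOpen _ _ _ hwV]
    by_contra hcon
    exact hgP (show ev g ∈ IsLocalRing.maximalIdeal _ from hcon)
  have hxr : x ∈ Y.basicOpen r := by
    by_contra hcon
    have hbot : ∃ i, ((ν i).base ⁻¹' {x}).Nonempty := by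
      by_contra hne
      push_neg at hne
      let C : Set Y := ⋃ i, Set.range (ν i).base
      have hC : IsClosed C := isClosed_iUnion_of_finite fun i => (ν i).isClosedMap.isClosed_range
      have hxC : x ∉ C := fun h => by
        obtain ⟨i, w, hw⟩ := Set.mem_iUnion.1 h
        exact (Set.eq_empty_iff_forall_notMem.1 (hne i)) w hw
      let O : Y.Opens := ⟨Cᶜ, hC.isOpen_compl⟩
      have h1 : (1 : Γ(Y, O)) = 0 := hinj O (funext fun i => by
        have hbot : ν i ⁻¹ᵁ O ≤ ⊥ := fun w hw => hw (Set.mem_iUnion.2 ⟨i, w, rfl⟩)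
        exact Groth.VarietyBC.PicGlue.subsingleton_functions hbot _ _)
      have h2 := congrArg (Y.presheaf.germ O x hxC) h1
      rw [map_one, map_zero] at h2
      exact one_ne_zero h2
    obtain ⟨i, w, hw⟩ := hbot
    have hwV : w ∈ ν i ⁻¹ᵁ V := show (ν i).base w ∈ V from Set.mem_singleton_iff.1 hw ▸ hx
    have h1 : IsUnit ((W i).presheaf.germ (ν i ⁻¹ᵁ V) w hwV ((ν i).app V r)) := by
      rw [show (ν i).app V r = g i ^ q * u i from congrFun hr i, map_mul, map_pow]
      exact (((Scheme.mem_basicOpen _ _ _ hwV).1 (hfib i w hw)).pow q).mul ((hu i).map _)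
    rw [← Scheme.mem_basicOpen, ← (ν i).preimage_basicOpen] at h1
    exact hcon (Set.mem_singleton_iff.1 hw ▸ h1)
  let C : Set Y := ⋃ i, (ν i).base '' (((W i).basicOpen (g i) : Set (W i))ᶜ)
  have hC : IsClosed C := isClosed_iUnion_of_finite fun i =>
    (ν i).isClosedMap _ ((W i).basicOpen (g i)).isOpen.isClosed_compl
  let O : Y.Opens := Y.basicOpen r ⊓ ⟨Cᶜ, hC.isOpen_compl⟩
  have hOV : O ≤ V := inf_le_left.trans (Y.basicOpen_le r)
  have hOg : ∀ i, ν i ⁻¹ᵁ O ≤ (W i).basicOpen (g i) := fun i w hw => by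
    by_contra hw'
    exact hw.2 (Set.mem_iUnion.2 ⟨i, w, hw', rfl⟩)
  refine ⟨O, hOV, resX Y hOV r, fun i => resX (W i) ((ν i).preimage_mono hOV) (g i), ⟨hxr, ?_⟩, ?_, fun i => ?_, fun i => ?_⟩
  · intro hxC
    obtain ⟨i, w, hw, hwx⟩ := Set.mem_iUnion.1 hxC
    exact hw (hfib i w hwx)
  · have h0 : IsUnit (resX Y (Y.basicOpen_le r) r) := RingedSpace.isUnit_res_basicOpen _ r
    have := h0.map (resX Y (inf_le_left : O ≤ Y.basicOpen r))
    rwa [resX_resX] at this
  · have h1 : IsUnit (resX (W i) ((W i).basicOpen_le (g i)) (g i)) :=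
      RingedSpace.isUnit_res_basicOpen _ (g i)
    have := h1.map (resX (W i) (hOg i))
    rwa [resX_resX] at this
  · rw [Groth.VarietyBC.PicGlue.resX_app ν, show (ν i).app V r = g i ^ q * u i from congrFun hr i,
      map_mul, map_pow]

include f hb hinj in
/-- A class whose pull-backs are `q`-th powers is a `q`-th power. -/
theorem exists_root_descend (hS : S.Finite) (hSc : ∀ s ∈ S, IsClosed ({s} : Set Y)) (q : ℕ) (hq : (q : k) ≠ 0)
    (c : PicLoc.PicSet Y) (hroot : ∀ i, ∃ d, d ^ q = Groth.Abvar.PicCalc.pull (ν i) c) :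
    ∃ d : PicLoc.PicSet Y, d ^ q = c := by
  classical
  obtain ⟨L, hL, rfl⟩ := PicGrp.exists_eq_cls c
  choose d hd using hroot
  choose N hN hdN using fun i => PicGrp.exists_eq_cls (d i)
  have hφ : ∀ i, Nonempty (CohB1.tensorPow (N i) q ≅ (Scheme.Modules.pullback (ν i)).obj L) := fun i => by
    rw [Groth.Abvar.PicCalc.nonempty_iso_iff (isInvertible_tensorPow (hN i) q) (PicLoc.isInvertible_pullback _ hL),
      Groth.Abvar.PicCalc.cls_tensorPow, ← Groth.Abvar.PicCalc.pull_cls _ hL, ← hd i, hdN i]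
  have φ := fun i => (hφ i).some
  have hloc : ∀ x : Y, ∃ (O : Y.Opens) (a : Γ(L, O)) (e : ∀ i, Γ(N i, ν i ⁻¹ᵁ O)),
      x ∈ O ∧ (∀ y ∈ O, y ∈ S → y = x) ∧ Gen L O a ∧ (∀ i, Gen (N i) (ν i ⁻¹ᵁ O) (e i)) ∧
      ∀ i, (φ i).hom.app (ν i ⁻¹ᵁ O) (powSec (e i) q) = pullSec (ν i) L a := by
    intro x
    obtain ⟨U, a, hxU, ha⟩ := (isInvertible_iff_exists_gen L).1 hL x
    have hcl : IsClosed (S \ {x}) := by
      rw [show S \ {x} = ⋃ y ∈ S \ {x}, {y} from (Set.biUnion_of_singleton _).symm]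
      exact (hS.subset Set.sdiff_subset).isClosed_biUnion fun y hy => hSc y hy.1
    obtain ⟨V, hV, hxV, hVle⟩ := exists_isAffineOpen_mem_and_subset (U := U ⊓ ⟨_, hcl.isOpen_compl⟩)
      (x := x) ⟨hxU, fun h => h.2 rfl⟩
    obtain ⟨O, hO, hxO, hOV, hgen⟩ := exists_gens ν N hN hV hxV
    choose e he using hgen
    have hOU : O ≤ U := fun y hy => (hVle (hOV hy)).1
    have hOS : ∀ y ∈ O, y ∈ S → y = x := fun y hy hyS => by
      by_contra hne
      exact (hVle (hOV hy)).2 ⟨hyS, hne⟩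
    let a' := res L hOU a
    choose v hv using fun i => ((ha.res hOU).pull (ν i)).exists_unit (((he i).pow q).map (φ i).hom)
    obtain ⟨O', hle, r, g, hx', hr, hg, hrg⟩ := exists_adjust ν f S hb hinj q hq hO hxO (hSc x) hOS
      (fun i => (v i : Γ(W i, ν i ⁻¹ᵁ O))) (fun i => (v i).isUnit)
    refine ⟨O', r • res L hle a', fun i => g i • res _ ((ν i).preimage_mono hle) (e i), hx',
      fun y hy => hOS y (hle hy), ((ha.res hOU).res hle).smul_unit hr,
      fun i => ((he i).res _).smul_unit (hg i), fun i => ?_⟩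
    rw [pullSec_smul, powSec_smul, Scheme.Modules.Hom.app_smul, ← res_powSec, app_res, hv i, res_smul,
      ← res_pullSec, smul_smul, hrg i]
    simp only [a', res_res]
    exact congrArg _ (res_pullSec (ν i) L (hle.trans hOU) a)
  choose O a e hxO hOS hga hge hcomp using hloc
  have hOtop : iSup O = ⊤ := eq_top_iff.2 fun x _ => Opens.mem_iSup.2 ⟨x, hxO x⟩
  have hbij : ∀ x y : Y, x ≠ y → ∀ z ∈ O x ⊓ O y, z ∉ S := fun x y hxy z hz hzS =>
    hxy ((hOS x z hz.1 hzS).symm.trans (hOS y z hz.2 hzS))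
  have ex : ∀ x y, ∃ η : Γ(Y, O x ⊓ O y), IsUnit η ∧ (x = y → η = 1) ∧
      ∀ i, res (N i) ((ν i).preimage_mono inf_le_left) (e x i) =
        (ν i).app (O x ⊓ O y) η • res (N i) ((ν i).preimage_mono inf_le_right) (e y i) := by
    intro x y
    by_cases hxy : x = y
    · subst hxy
      exact ⟨1, isUnit_one, fun _ => rfl, fun i => by rw [map_one, one_smul]⟩
    choose z hz using fun i => Gen.exists_unit
      ((hge y i).res ((ν i).preimage_mono (inf_le_right : O x ⊓ O y ≤ O y)))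
      ((hge x i).res ((ν i).preimage_mono (inf_le_left : O x ⊓ O y ≤ O x)))
    obtain ⟨η, hη⟩ := (hb _ (hbij x y hxy)).2 fun i => (z i : Γ(W i, ν i ⁻¹ᵁ (O x ⊓ O y)))
    obtain ⟨η', hη'⟩ := (hb _ (hbij x y hxy)).2 fun i => ((z i)⁻¹ : (Γ(W i, ν i ⁻¹ᵁ (O x ⊓ O y)))ˣ).1
    refine ⟨η, IsUnit.of_mul_eq_one (a := η) η' (hinj _ (funext fun i => ?_)), fun h => absurd h hxy, fun i => ?_⟩
    · simp only [toPieces, map_mul, map_one]
      rw [show (ν i).app _ η = _ from congrFun hη i, show (ν i).app _ η' = _ from congrFun hη' i]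
      exact (z i).mul_inv
    · rw [show (ν i).app _ η = _ from congrFun hη i]
      exact hz i
  choose η hηu hη1 hη using ex
  have hcoc : ∀ x y z : Y,
      resX Y (inf_le_inf_right (O z) inf_le_left : O x ⊓ O y ⊓ O z ≤ O x ⊓ O z) (η x z) =
        resX Y (inf_le_left : O x ⊓ O y ⊓ O z ≤ O x ⊓ O y) (η x y) *
          resX Y (inf_le_inf_right (O z) inf_le_right : O x ⊓ O y ⊓ O z ≤ O y ⊓ O z) (η y z) := by
    intro x y z
    refine hinj _ (funext fun i => ?_)
    simp only [toPieces, map_mul, Groth.VarietyBC.PicGlue.resX_app ν]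
    refine (hge z i).smul_inj ((ν i).preimage_mono inf_le_right) ?_
    have h1 := congrArg (res (N i) ((ν i).preimage_mono
      (inf_le_inf_right (O z) inf_le_left : O x ⊓ O y ⊓ O z ≤ O x ⊓ O z))) (hη x z i)
    have h2 := congrArg (res (N i) ((ν i).preimage_mono
      (inf_le_left : O x ⊓ O y ⊓ O z ≤ O x ⊓ O y))) (hη x y i)
    have h3 := congrArg (res (N i) ((ν i).preimage_mono
      (inf_le_inf_right (O z) inf_le_right : O x ⊓ O y ⊓ O z ≤ O y ⊓ O z))) (hη y z i)
    simp only [res_smul, res_res] at h1 h2 h3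
    rw [mul_smul, ← h3, ← h2, ← h1]
  obtain ⟨M, s, hs, hM, hrel⟩ := exists_module_of_cocycle O η hOtop hηu hcoc
  refine ⟨PicGrp.cls M hM, ?_⟩
  rw [← Groth.Abvar.PicCalc.cls_tensorPow hM q, ← Groth.Abvar.PicCalc.nonempty_iso_iff]
  obtain ⟨ψ, -⟩ := exists_iso_of_gen hOtop (fun x => powSec (s x) q) (fun x => (hs x).pow q) a hga
    fun x y r hr => by
      have hr' : r = η x y ^ q := by
        refine ((hs y).pow q).smul_inj inf_le_right ?_
        rw [← hr, res_powSec, hrel, powSec_smul, res_powSec]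
      subst hr'
      obtain ⟨z, hz⟩ := (hga y).exists_coeff inf_le_right (res L (inf_le_left : O x ⊓ O y ≤ O x) (a x))
      rw [hz]
      congr 1
      refine hinj _ (funext fun i => ?_)
      refine (((hge y i).pow q).map (φ i).hom).smul_inj ((ν i).preimage_mono inf_le_right) ?_
      show (ν i).app _ z • _ = (ν i).app _ (η x y ^ q) • _
      rw [hcomp y i, res_pullSec (ν i) L (inf_le_right : O x ⊓ O y ≤ O y), ← pullSec_smul, ← hz, ← res_pullSec, ← hcomp x i, ← app_res, res_powSec,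
        hη x y i, powSec_smul, Scheme.Modules.Hom.app_smul, map_pow, ← res_powSec, app_res, hcomp y i,
        res_pullSec]
  exact ⟨ψ⟩

end Groth.ModelsGraphs.PicDiv
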