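import Groth.Agent.ModelsGraphs.PicDiv.Integral
import Groth.Agent.AlgSp3.RedInduced
import Groth.Agent.AdicLinTop.Thickenings
import Groth.Agent.GitQuot.GrpdFinStrata

/-!
# Divisibility of degree zero classes on proper schemes of dimension at most one
-/

set_option autoImplicit false
set_option linter.style.haveILetI false

universe u

open CategoryTheory CategoryTheory.Limits AlgebraicGeometry TopologicalSpace Opposite
open Groth.PicAux
open scoped Groth.Abvar.PicCalc

set_option maxHeartbeats 1600000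
set_option backward.isDefEq.respectTransparency false
set_option backward.defeqAttrib.useBackward true
set_option backward.isDefEq.respectTransparency.types false

namespace Groth.ModelsGraphs.PicDiv

open Groth.VarietyBC.PicGlue (toPieces)
open Groth.Abvar.PicCalc (pull)

variable (k : Type u) [Field k] [IsAlgClosed k]

/-- Units of a proper scheme over an algebraically closed field have roots. -/
theorem roots_of_proper {Y : Scheme.{u}} (f : Y ⟶ Spec (CommRingCat.of k)) [IsProper f] (q : ℕ)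
    (hq : (q : k) ≠ 0) (v : (Γ(Y, ⊤))ˣ) : ∃ w, w ^ q = v := by
  haveI : CompactSpace Y := QuasiCompact.compactSpace_of_compactSpace f
  haveI : IsLocallyNoetherian Y := LocallyOfFiniteType.isLocallyNoetherian f
  haveI : IsNoetherian Y := ⟨⟩
  have hfin := Groth.CohFin.hFin_of_proper Groth.CohFin.projFinite 0 Y f (Coh.structureModule Y)
    (Groth.Inter.isCoh_of_isInvertible (PicLoc.isInvertible_structureModule Y))
  letI : Algebra k Γ(Y, ⊤) := (show k →+* Γ(Y, ⊤) from Coh.toGlobal f).toAlgebra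
  let eS := Groth.CohFin.equivSections f (Coh.structureModule Y)
  let sec : Groth.CohFin.HA f (Coh.structureModule Y) 0 ≃ₗ[k] Γ(Y, ⊤) :=
    { toFun := fun x => (eS x : Γ(Coh.structureModule Y, ⊤))
      invFun := fun s => eS.symm (s : Γ(Coh.structureModule Y, ⊤))
      left_inv := eS.symm_apply_apply
      right_inv := eS.apply_symm_apply
      map_add' := eS.map_add
      map_smul' := fun r x => Groth.CohFin.equivSections_smul f (Coh.structureModule Y) r x }
  haveI := hfin
  haveI : Module.Finite k Γ(Y, ⊤) := Module.Finite.equiv sec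
  haveI : IsArtinianRing Γ(Y, ⊤) := IsArtinianRing.of_finite k _
  refine Groth.ModelsGraphs.PicKernel.roots_of_units (k := k) (R := k) Function.surjective_id
    (fun x hx => by rw [show x = 0 from hx]; exact Submodule.zero_mem _) q ?_ v
  have := (IsUnit.mk0 (q : k) hq).map (algebraMap k Γ(Y, ⊤))
  rwa [map_natCast] at this

/-- Divisibility passes through a nilpotent thickening of schemes of dimension at most one. -/
theorem exists_root_of_nilpotent : ∀ (m : ℕ) (Y Y₀ : Scheme.{u}) (f : Y ⟶ Spec (CommRingCat.of k))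
    [IsProper f] (_ : topologicalKrullDim Y ≤ ((1 : ℕ) : WithBot ℕ∞)) (t : Y₀ ⟶ Y) [IsClosedImmersion t]
    (_ : t.ker ^ (m + 1) = ⊥) (q : ℕ) (_ : (q : k) ≠ 0) (c : PicLoc.PicSet Y),
    (∃ d, d ^ q = pull t c) → ∃ d : PicLoc.PicSet Y, d ^ q = c := by
  intro m
  induction m with
  | zero =>
    intro Y Y₀ f _ _ t _ hI q _ c ⟨d, hd⟩
    haveI : IsIso t := by
      rw [IsClosedImmersion.isIso_iff_ker_eq_bot]
      simpa using hI
    refine ⟨pull (inv t) d, ?_⟩
    rw [← map_pow, hd, ← Groth.Abvar.PicCalc.pull_comp, IsIso.inv_hom_id, Groth.Abvar.PicCalc.pull_id]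
  | succ m ih =>
    intro Y Y₀ f _ hdim t _ hI q hq c ⟨d, hd⟩
    let J := t.ker ^ (m + 1)
    let Z := J.subscheme
    let s : Z ⟶ Y := J.subschemeι
    have hle : s.ker ≤ t.ker := by
      rw [Scheme.IdealSheafData.ker_subschemeι]
      intro U
      show (t.ker ^ (m + 1)).ideal U ≤ _
      rw [Scheme.IdealSheafData.ideal_pow, Pi.pow_apply]
      exact Ideal.pow_le_self m.succ_ne_zero
    let t₀ : Y₀ ⟶ Z := IsClosedImmersion.lift s t hle
    have ht₀ : t₀ ≫ s = t := IsClosedImmersion.lift_fac _ _ _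
    haveI : IsClosedImmersion (t₀ ≫ s) := ht₀ ▸ ‹IsClosedImmersion t›
    haveI : IsClosedImmersion t₀ := IsClosedImmersion.of_comp t₀ s
    have hk0 : t₀.ker ^ (m + 1) = ⊥ := by
      rw [Groth.AdicLinTop.Thickenings.ker_eq_comap_ker_comp t₀ s]
      simp only [ht₀]
      rw [← Groth.Divisors.comap_pow]
      exact Groth.GrpdFinStrata.comap_subschemeι_eq_bot (le_refl J)
    have hdZ : topologicalKrullDim Z ≤ ((1 : ℕ) : WithBot ℕ∞) :=
      s.isClosedEmbedding.isInducing.topologicalKrullDim_le.trans hdim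
    obtain ⟨d', hd'⟩ := ih Z Y₀ (s ≫ f) hdZ t₀ hk0 q hq (pull s c) ⟨d, hd.trans
      ((congrArg (fun u => pull u c) ht₀.symm).trans (Groth.Abvar.PicCalc.pull_comp t₀ s c))⟩
    have hJ : s.ker * s.ker = ⊥ := by
      rw [Scheme.IdealSheafData.ker_subschemeι, eq_bot_iff, ← hI]
      intro U
      simp only [J, Scheme.IdealSheafData.ideal_mul, Scheme.IdealSheafData.ideal_pow, Pi.mul_apply, Pi.pow_apply]
      rw [← pow_add]
      exact Ideal.pow_le_pow_right (by omega)
    haveI : CompactSpace Y := QuasiCompact.compactSpace_of_compactSpace f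
    haveI : IsLocallyNoetherian Y := LocallyOfFiniteType.isLocallyNoetherian f
    haveI : IsNoetherian Y := ⟨⟩
    obtain ⟨e, he⟩ := Groth.ModelsGraphs.PicKernel.step_surjective s hJ
      (Groth.Inter.Vanishing.subsingleton_H_of_dim_le (d := 1) hdim _ 2 one_lt_two) d'
    have hqu : IsUnit (q : Γ(Y, ⊤)) := by
      have := (IsUnit.mk0 (q : k) hq).map (show k →+* Γ(Y, ⊤) from Coh.toGlobal f)
      rwa [map_natCast] at this
    obtain ⟨z, ⟨-, hz⟩, -⟩ := Groth.ModelsGraphs.PicKernel.step_root s hJ q hqu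
      (roots_of_proper k (s ≫ f) q hq) (c := c / e ^ q) (by rw [map_div, map_pow, he, hd', div_self'])
    exact ⟨e * z, by rw [mul_pow, hz, mul_div_cancel]⟩

/-- The nilradical of a Noetherian scheme is nilpotent. -/
theorem exists_nilradical_pow_eq_bot (Y : Scheme.{u}) [IsNoetherian Y] :
    ∃ m : ℕ, Y.nilradical ^ (m + 1) = ⊥ := by
  classical
  obtain ⟨s, hs⟩ := CompactSpace.elim_nhds_subcover
    (fun y : Y => ((Groth.Divisors.exists_affine_le y ⊤ trivial).choose.1 : Set Y)) fun y =>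
      (Groth.Divisors.exists_affine_le y ⊤ trivial).choose.1.isOpen.mem_nhds
        (Groth.Divisors.exists_affine_le y ⊤ trivial).choose_spec.1
  let V : Y → Y.affineOpens := fun y => (Groth.Divisors.exists_affine_le y ⊤ trivial).choose
  have hn : ∀ y, ∃ n : ℕ, Y.nilradical.ideal (V y) ^ n = ⊥ := fun y => by
    haveI : IsNoetherianRing Γ(Y, (V y).1) := IsLocallyNoetherian.component_noetherian (V y)
    obtain ⟨n, hn⟩ := IsNoetherianRing.isNilpotent_nilradical Γ(Y, (V y).1)
    refine ⟨n, ?_⟩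
    show (Ideal.radical ⊥) ^ n = ⊥
    exact hn
  choose n hn using hn
  refine ⟨∑ y ∈ s, n y, Groth.Divisors.ext_of_cover fun x => ?_⟩
  obtain ⟨y, hy, hxy⟩ : ∃ y ∈ s, x ∈ (V y).1 := by
    have := hs.ge (Set.mem_univ x)
    obtain ⟨y, hy, h⟩ := Set.mem_iUnion₂.1 this
    exact ⟨y, hy, h⟩
  refine ⟨V y, hxy, ?_⟩
  rw [Scheme.IdealSheafData.ideal_pow, Pi.pow_apply, Scheme.IdealSheafData.ideal_bot, Pi.bot_apply,
    eq_bot_iff, ← hn y]
  exact Ideal.pow_le_pow_right ((Finset.single_le_sum (fun _ _ => Nat.zero_le _) hy).trans (Nat.le_succ _))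

/-- Degree zero classes on a reduced proper curve with given components are `q`-th powers. -/
theorem exists_root_of_reduced (Y : Scheme.{u}) (f : Y ⟶ Spec (CommRingCat.of k)) [IsProper f]
    [IsReduced Y] {κ : Type u} [Fintype κ] (G : κ → Scheme.{u}) (ι : ∀ i, G i ⟶ Y)
    [∀ i, IsClosedImmersion (ι i)] [∀ i, IsIntegral (G i)] (hd : ∀ i, topologicalKrullDim (G i) = 1)
    (hcov : ∀ y : Y, ∃ i, y ∈ Set.range (ι i)) (hne : ∀ i j, Set.range (ι i) = Set.range (ι j) → i = j)
    (q : ℕ) (hq : (q : k) ≠ 0) (L : Y.Modules) (hL : PicF.IsInvertible L)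
    (h0 : ∀ i, Pic13.curveDeg k (ι i ≫ f) ((Scheme.Modules.pullback (ι i)).obj L) = 0) :
    ∃ d : PicLoc.PicSet Y, d ^ q = PicGrp.cls L hL := by
  classical
  haveI : CompactSpace Y := QuasiCompact.compactSpace_of_compactSpace f
  haveI : IsLocallyNoetherian Y := LocallyOfFiniteType.isLocallyNoetherian f
  haveI : IsNoetherian Y := ⟨⟩
  have hroot : ∀ i, ∃ d, d ^ q = pull (ι i) (PicGrp.cls L hL) := fun i => by
    letI : (G i).Over (Spec (CommRingCat.of k)) := ⟨ι i ≫ f⟩
    haveI : IsProper (G i ↘ Spec (CommRingCat.of k)) := inferInstanceAs (IsProper (ι i ≫ f))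
    obtain ⟨d, hd'⟩ := exists_root_of_integral k (G i) (hd i) q hq _ (PicLoc.isInvertible_pullback (ι i) hL) (h0 i)
    exact ⟨d, hd'.trans (Groth.Abvar.PicCalc.pull_cls (ι i) hL).symm⟩
  let S : Set Y := ⋃ i, ⋃ j ∈ ({i}ᶜ : Set κ), Set.range (ι i) ∩ Set.range (ι j)
  have hmemS : ∀ {y : Y} {i j : κ}, i ≠ j → y ∈ Set.range (ι i) → y ∈ Set.range (ι j) → y ∈ S :=
    fun {y i j} hij hi hj => Set.mem_iUnion.2 ⟨i, Set.mem_iUnion₂.2 ⟨j, Ne.symm hij, hi, hj⟩⟩
  have hScl : IsClosed S := isClosed_iUnion_of_finite fun i =>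
    (Set.toFinite _).isClosed_biUnion fun j _ =>
      (ι i).isClosedEmbedding.isClosed_range.inter (ι j).isClosedEmbedding.isClosed_range
  have hgen : ∀ i (z : G i), ¬ IsClosed ({z} : Set (G i)) → z = genericPoint (G i) := fun i z hz =>
    (@Groth.EulerDeg.eq_of_specializes_of_not_isClosed (G i).toTopCat (inferInstanceAs (T0Space (G i)))
      (inferInstance : QuasiSober (G i)) (hd i).le z (genericPoint (G i)) hz
      (genericPoint_specializes (α := G i) z)).symm
  have hSc : ∀ y ∈ S, IsClosed ({y} : Set Y) := by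
    intro y hy
    obtain ⟨i, hy⟩ := Set.mem_iUnion.1 hy
    obtain ⟨j, hij, ⟨z, rfl⟩, w, hw⟩ := Set.mem_iUnion₂.1 hy
    by_contra hcl
    have hzc : ¬ IsClosed ({z} : Set (G i)) := fun h => hcl (by
      simpa using (ι i).isClosedEmbedding.isClosedMap _ h)
    have hwc : ¬ IsClosed ({w} : Set (G j)) := fun h => hcl (by
      have := (ι j).isClosedEmbedding.isClosedMap _ h
      rw [Set.image_singleton, hw] at this
      exact this)
    have hrange : ∀ l, Set.range (ι l) = closure {ι l (genericPoint (G l))} := fun l => by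
      rw [← Set.image_singleton, (ι l).isClosedEmbedding.closure_image_eq, genericPoint_spec,
        Set.image_univ]
    refine hij (hne j i ?_)
    rw [hrange i, hrange j, ← hgen i z hzc, ← hgen j w hwc, hw]
  have hinj : ∀ V : Y.Opens, Function.Injective (toPieces ι V) := by
    intro V a b hab
    rw [← sub_eq_zero]
    have h1 : ∀ i, (ι i).app V (a - b) = 0 := fun i => by
      rw [map_sub, show (ι i).app V a = (ι i).app V b from congrFun hab i, sub_self]
    refine (basicOpen_eq_bot_iff (a - b)).1 (eq_bot_iff.2 fun y hy => ?_)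
    obtain ⟨i, z, rfl⟩ := hcov y
    have h2 : z ∈ ι i ⁻¹ᵁ Y.basicOpen (a - b) := hy
    rw [Scheme.preimage_basicOpen, h1 i, Scheme.basicOpen_zero] at h2
    exact h2
  refine exists_root_descend ι f S (fun V hV => ⟨hinj V, fun s => ?_⟩) hinj
    (finite_of_closed_points hScl hSc) hSc q hq _ hroot
  -- the pieces are disjoint on `V`
  let O : κ → Y.Opens := fun i =>
    V ⊓ ⟨(⋃ j ∈ ({i}ᶜ : Set κ), Set.range (ι j))ᶜ, ((Set.toFinite _).isClosed_biUnion fun j _ =>
      (ι j).isClosedEmbedding.isClosed_range).isOpen_compl⟩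
  have hOV : ∀ i, O i ≤ V := fun i => inf_le_left
  have hO : ∀ i, IsIso (ι i ∣_ O i) := fun i => by
    haveI : IsClosedImmersion (ι i ∣_ O i) := inferInstance
    haveI : Surjective (ι i ∣_ O i) := by
      refine ⟨fun ⟨y, hy⟩ => ?_⟩
      obtain ⟨j, z, rfl⟩ := hcov y
      have hij : j = i := by_contra fun h => hy.2 (Set.mem_iUnion₂.2 ⟨j, h, z, rfl⟩)
      subst hij
      exact ⟨⟨z, hy⟩, Subtype.ext (morphismRestrict_base_coe _ _ _)⟩
    exact isIso_of_isClosedImmersion_of_surjective _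
  have hb : ∀ i, ∃ a : Γ(Y, O i), (ι i).app (O i) a = resX (G i) ((ι i).preimage_mono (hOV i)) (s i) :=
    fun i => by
      haveI := hO i
      exact (Groth.VarietyBC.PicGlue.bijective_app_of_isIso_restrict (ι i) (O i) (O i) le_rfl).2 _
  choose a ha using hb
  have hcover : V ≤ iSup O := fun y hy => by
    obtain ⟨i, hi⟩ := hcov y
    refine Opens.mem_iSup.2 ⟨i, hy, fun h => ?_⟩
    obtain ⟨j, hji, hj⟩ := Set.mem_iUnion₂.1 h
    exact hV y hy (hmemS (Ne.symm hji) hi hj)
  have hdisj : ∀ i j, i ≠ j → O i ⊓ O j ≤ ⊥ := fun i j hij y hy => by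
    obtain ⟨l, hl⟩ := hcov y
    by_cases h : l = i
    · exact (hy.2.2 (Set.mem_iUnion₂.2 ⟨l, h ▸ hij, hl⟩)).elim
    · exact (hy.1.2 (Set.mem_iUnion₂.2 ⟨l, h, hl⟩)).elim
  obtain ⟨b, hb⟩ := resX_glue O hOV hcover a fun i j => by
    by_cases h : i = j
    · subst h; rfl
    · exact Groth.VarietyBC.PicGlue.subsingleton_functions (hdisj i j h) _ _
  refine ⟨b, funext fun i => ?_⟩
  show (ι i).app V b = s i
  have hle : ι i ⁻¹ᵁ V ≤ ι i ⁻¹ᵁ O i := fun z hz => ⟨hz, fun h => by
    obtain ⟨j, hji, hj⟩ := Set.mem_iUnion₂.1 h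
    exact hV _ hz (hmemS (Ne.symm hji) ⟨z, rfl⟩ hj)⟩
  have h2 := congrArg (resX (G i) hle) (Groth.VarietyBC.PicGlue.resX_app ι (hOV i) b)
  rw [show resX Y (hOV i) b = a i from hb.1 i, ha i, resX_resX, resX_resX, resX_self, resX_self] at h2
  exact h2.symm

/-- Degree zero classes on a proper scheme of dimension at most one with given integral components are
`q`-th powers. -/
theorem exists_root_of_components (Y : Scheme.{u}) (f : Y ⟶ Spec (CommRingCat.of k)) [IsProper f]
    (hdim : topologicalKrullDim Y ≤ ((1 : ℕ) : WithBot ℕ∞)) {κ : Type u} [Fintype κ] (G : κ → Scheme.{u})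
    (ι : ∀ i, G i ⟶ Y) [∀ i, IsClosedImmersion (ι i)] [∀ i, IsIntegral (G i)]
    (hd : ∀ i, topologicalKrullDim (G i) = 1)
    (hcov : ∀ y : Y, ∃ i, y ∈ Set.range (ι i)) (hne : ∀ i j, Set.range (ι i) = Set.range (ι j) → i = j)
    (q : ℕ) (hq : (q : k) ≠ 0) (L : Y.Modules) (hL : PicF.IsInvertible L)
    (h0 : ∀ i, Pic13.curveDeg k (ι i ≫ f) ((Scheme.Modules.pullback (ι i)).obj L) = 0) :
    ∃ d : PicLoc.PicSet Y, d ^ q = PicGrp.cls L hL := by
  haveI : CompactSpace Y := QuasiCompact.compactSpace_of_compactSpace f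
  haveI : IsLocallyNoetherian Y := LocallyOfFiniteType.isLocallyNoetherian f
  haveI : IsNoetherian Y := ⟨⟩
  let I := Y.nilradical
  let t : I.subscheme ⟶ Y := I.subschemeι
  haveI : IsReduced I.subscheme := by
    show IsReduced (Y.nilradical).subscheme
    rw [← Scheme.IdealSheafData.vanishingIdeal_top]
    exact Groth.PropsBasic2.isReduced_vanishingIdeal_subscheme ⊤
  have hle : ∀ i, t.ker ≤ (ι i).ker := fun i => by
    rw [Scheme.IdealSheafData.ker_subschemeι, Groth.AlgSp3.ker_eq_vanishingIdeal_of_isReduced,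
      show I = Scheme.IdealSheafData.vanishingIdeal ⊤ from (Scheme.IdealSheafData.vanishingIdeal_top).symm]
    exact Scheme.IdealSheafData.vanishingIdeal_antimono le_top
  let ι₀ : ∀ i, G i ⟶ I.subscheme := fun i => IsClosedImmersion.lift t (ι i) (hle i)
  have hι₀ : ∀ i, ι₀ i ≫ t = ι i := fun i => IsClosedImmersion.lift_fac _ _ _
  haveI : ∀ i, IsClosedImmersion (ι₀ i) := fun i => by
    haveI : IsClosedImmersion (ι₀ i ≫ t) := (hι₀ i).symm ▸ inferInstance
    exact IsClosedImmersion.of_comp (ι₀ i) t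
  have happ : ∀ i (z : G i), t (ι₀ i z) = ι i z := fun i z =>
    congrArg (fun m : G i ⟶ Y => m z) (hι₀ i)
  have hcov₀ : ∀ y : I.subscheme, ∃ i, y ∈ Set.range (ι₀ i) := fun y => by
    obtain ⟨i, z, hz⟩ := hcov (t y)
    exact ⟨i, z, t.isClosedEmbedding.injective ((happ i z).trans hz)⟩
  have hne₀ : ∀ i j, Set.range (ι₀ i) = Set.range (ι₀ j) → i = j := fun i j h => hne i j (by
    have h' := congrArg (Set.image t) h
    rwa [← Set.range_comp, ← Set.range_comp, show (⇑t ∘ ⇑(ι₀ i)) = ⇑(ι i) from funext (happ i),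
      show (⇑t ∘ ⇑(ι₀ j)) = ⇑(ι j) from funext (happ j)] at h')
  obtain ⟨d, hd'⟩ := exists_root_of_reduced k I.subscheme (t ≫ f) G ι₀ hd hcov₀ hne₀ q hq _
    (PicLoc.isInvertible_pullback t hL) fun i => by
      have e : (Scheme.Modules.pullback (ι₀ i)).obj ((Scheme.Modules.pullback t).obj L) ≅
          (Scheme.Modules.pullback (ι i)).obj L :=
        (Scheme.Modules.pullbackComp _ _).app L ≪≫ (Scheme.Modules.pullbackCongr (hι₀ i)).app L
      letI : (G i).Over (Spec (CommRingCat.of k)) := ⟨ι i ≫ f⟩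
      haveI : IsProper (G i ↘ Spec (CommRingCat.of k)) := inferInstanceAs (IsProper (ι i ≫ f))
      have h := h0 i
      rw [show ι₀ i ≫ t ≫ f = ι i ≫ f by rw [← Category.assoc, hι₀ i]]
      unfold Pic13.curveDeg at h ⊢
      rw [Groth.Inter.eulerCharLE_eq k ((hd i).le : topologicalKrullDim (G i) ≤ ((1 : ℕ) : WithBot ℕ∞)),
        Groth.Inter.eulerCharLE_eq k ((hd i).le : topologicalKrullDim (G i) ≤ ((1 : ℕ) : WithBot ℕ∞))] at h ⊢
      rw [Groth.EulerDeg.euler_congr k e]
      exact h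
  obtain ⟨m, hm⟩ := exists_nilradical_pow_eq_bot Y
  refine exists_root_of_nilpotent k m Y I.subscheme f hdim t ?_ q hq _
    ⟨d, hd'.trans (Groth.Abvar.PicCalc.pull_cls t hL).symm⟩
  rw [Scheme.IdealSheafData.ker_subschemeι]
  exact hm

end Groth.ModelsGraphs.PicDiv
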