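import Groth.Agent.ModelsGraphs.PicKernel

/-!
# Roots along a thickening with surjective restriction of functions
-/

set_option autoImplicit false
set_option backward.isDefEq.respectTransparency.types false

universe u

open CategoryTheory Limits AlgebraicGeometry Opposite TopologicalSpace
open Groth.Abvar.PicCalc (pull)
open scoped Groth.Abvar.PicCalc

noncomputable section

namespace Groth.ModelsGraphs.PicDiv

/-- Along a square zero thickening with surjective restriction of global functions the kernel of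
restriction of Picard groups is uniquely divisible. -/
theorem existsUnique_root {Y Z : Scheme.{u}} (t : Y ⟶ Z) [IsClosedImmersion t] (hI : t.ker * t.ker = ⊥)
    (hs : Function.Surjective t.appTop) (q : ℕ) (hq : IsUnit (q : Γ(Z, ⊤)))
    {c : PicLoc.PicSet Z} (hc : pull t c = 1) :
    ∃! d : PicLoc.PicSet Z, pull t d = 1 ∧ d ^ q = c := by
  obtain ⟨e, he⟩ := Groth.ModelsGraphs.PicKernel.exists_pull_bijective t
  let hi := Groth.Abvar.PicCalc.pullMulCl t.ker.subschemeι
  have hiff : ∀ d, pull t d = 1 ↔ PicGrp.pullHom t.ker.subschemeι hi d = 1 := fun d => by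
    have h1 : pull t d = pull e.hom (pull t.ker.subschemeι d) :=
      (congrArg (fun s => pull s d) he.symm).trans (Groth.Abvar.PicCalc.pull_comp _ _ d)
    rw [h1]
    exact ⟨fun h => (Groth.ModelsGraphs.PicKernel.pull_iso_bijective e).1 (h.trans (map_one _).symm),
      fun h => by
        rw [show pull t.ker.subschemeι d = 1 from h, map_one]⟩
  have hs' : Function.Surjective t.ker.subschemeι.appTop.hom := by
    intro y
    obtain ⟨z, hz⟩ := hs (e.hom.appTop y)
    haveI : IsIso e.hom.appTop := inferInstanceAs (IsIso (Scheme.Γ.map e.hom.op))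
    refine ⟨z, (ConcreteCategory.bijective_of_isIso e.hom.appTop).1 ?_⟩
    have h1 : t.appTop z = e.hom.appTop (t.ker.subschemeι.appTop z) :=
      (congrArg (fun s : Y ⟶ Z => s.appTop z) he).symm.trans (by rw [Scheme.Hom.comp_appTop]; first | done | rfl)
    exact h1.symm.trans hz
  obtain ⟨ε, δ₀, α, δ₁, -, -, hδ, hα, hk, -⟩ := Groth.PicAux.PicExpSeq.exists_sequence hi hI
  have hinj : Function.Injective α := by
    rw [← MonoidHom.ker_eq_bot_iff, hα, eq_bot_iff]
    rintro x ⟨v, rfl⟩
    have hv : v ∈ δ₀.ker := hδ.ge (Groth.PicAux.PicExpSeq.units_map_surjective hI hs' v)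
    exact hv
  have hb := Groth.ModelsGraphs.PicStep.nsmul_bijective (ClSub.idealMod t.ker) 1 q hq
  have hker : ∀ d, PicGrp.pullHom t.ker.subschemeι hi d = 1 → ∃ x, α (Multiplicative.ofAdd x) = d := by
    intro d hd
    have : d ∈ α.range := hk ▸ hd
    obtain ⟨x, rfl⟩ := this
    exact ⟨Multiplicative.toAdd x, rfl⟩
  obtain ⟨x, rfl⟩ := hker c ((hiff c).1 hc)
  obtain ⟨y, rfl⟩ := hb.2 x
  refine ⟨α (Multiplicative.ofAdd y), ⟨(hiff _).2 (hk.ge ⟨_, rfl⟩), ?_⟩, ?_⟩
  · rw [← map_pow, ← ofAdd_nsmul]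
  rintro d ⟨hd, hdq⟩
  obtain ⟨z, rfl⟩ := hker d ((hiff d).1 hd)
  rw [← map_pow, ← ofAdd_nsmul] at hdq
  exact congrArg α (congrArg Multiplicative.ofAdd (hb.1 (Multiplicative.ofAdd.injective (hinj hdq))))

end Groth.ModelsGraphs.PicDiv
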