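import Groth.Agent.ModelsGraphs.PicDiv.Rep
import Groth.Agent.ModelsGraphs.PicDiv.Root
import Groth.Agent.S12411
import Groth.Agent.S1489
import Groth.Agent.FlatmorThree.FormalLift
import Groth.Agent.OmegaSheaf.UnivThick.BaseChange
import Groth.Agent.Reductive.MTTransporter

/-!
# Divisibility of the classes of degree zero on a smooth proper curve

Multiplication by `q` on the rigidified Picard scheme is étale for invertible `q`; its image is
open and closed, hence contains every class connected to the trivial one.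
-/

set_option autoImplicit false

universe u

open CategoryTheory CategoryTheory.Limits AlgebraicGeometry TopologicalSpace Opposite
open Groth.Abvar.PicCalc
open Groth.PicCurve

set_option maxHeartbeats 1600000
set_option backward.isDefEq.respectTransparency false
set_option backward.defeqAttrib.useBackward true
set_option backward.isDefEq.respectTransparency.types false

namespace Groth.ModelsGraphs.PicDiv

variable {k : Type u} [Field k] {X : Scheme.{u}} {f : X ⟶ Spec (CommRingCat.of k)}
  {σ : Spec (CommRingCat.of k) ⟶ X} {hσ : σ ≫ f = 𝟙 (Spec (CommRingCat.of k))}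
  {T T' : Over (Spec (CommRingCat.of k))}

/-- Product of rigidified classes. -/
noncomputable def rmul (c d : RS f σ hσ T) : RS f σ hσ T :=
  ⟨c.1 * d.1, by rw [map_mul, c.2, d.2, one_mul]⟩

/-- Powers of rigidified classes. -/
noncomputable def rpow (c : RS f σ hσ T) (n : ℕ) : RS f σ hσ T :=
  ⟨c.1 ^ n, by rw [map_pow, c.2, one_pow]⟩

/-- The inverse of a rigidified class. -/
noncomputable def rinv (c : RS f σ hσ T) : RS f σ hσ T :=
  ⟨c.1⁻¹, by rw [map_inv, c.2, inv_one]⟩

theorem rmul_map (g : T' ⟶ T) (c d : RS f σ hσ T) : (rmul c d).map g = rmul (c.map g) (d.map g) :=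
  Subtype.ext (map_mul (pull (PicF.XTmap f g)) c.1 d.1)

theorem rpow_map (g : T' ⟶ T) (c : RS f σ hσ T) (n : ℕ) : (rpow c n).map g = rpow (c.map g) n :=
  Subtype.ext (map_pow (pull (PicF.XTmap f g)) c.1 n)

/-- The terminal object. -/
noncomputable abbrev K0 : Over (Spec (CommRingCat.of k)) := Over.mk (𝟙 _)

/-- The structure map to the terminal object. -/
noncomputable abbrev toK0 (T : Over (Spec (CommRingCat.of k))) : T ⟶ K0 :=
  Over.homMk T.hom (Category.comp_id _)

theorem toK0_unique (g : T ⟶ K0) : g = toK0 T := by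
  ext
  exact (Category.comp_id _).symm.trans (Over.w g)

/-- The Picard group of the spectrum of a field is trivial. -/
theorem pic_specField (c : PicLoc.PicSet (Spec (CommRingCat.of k))) : c = 1 := by
  obtain ⟨L, hL, rfl⟩ := PicGrp.exists_eq_cls c
  rw [← nonempty_iso_structure_iff, PicAux.nonempty_iso_structure_iff]
  obtain ⟨U, e, hU, he⟩ := (PicAux.isInvertible_iff_exists_gen L).1 hL (IsLocalRing.closedPoint k)
  have : U = ⊤ := top_le_iff.1 fun x _ => (Subsingleton.elim (IsLocalRing.closedPoint k) x) ▸ hU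
  subst this
  exact ⟨e, he⟩

section Rep

variable {P : Over (Spec (CommRingCat.of k))} (r : (rigFun f σ hσ).RepresentableBy P)

/-- The class classified by a morphism. -/
noncomputable def cl {T : Over (Spec (CommRingCat.of k))} (g : T ⟶ P) : RS f σ hσ T :=
  toRS (r.homEquiv g)

/-- The morphism classifying a class. -/
noncomputable def classify {T : Over (Spec (CommRingCat.of k))} (c : RS f σ hσ T) : T ⟶ P :=
  r.homEquiv.symm (ofRS c)

@[simp] theorem cl_classify (c : RS f σ hσ T) : cl r (classify r c) = c := by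
  rw [cl, classify, Equiv.apply_symm_apply, toRS_ofRS]

theorem cl_injective : Function.Injective (cl r : (T ⟶ P) → RS f σ hσ T) := fun _ _ h =>
  r.homEquiv.injective (toRS_injective h)

theorem cl_comp (g : T' ⟶ T) (h : T ⟶ P) : cl r (g ≫ h) = (cl r h).map g := by
  rw [cl, cl, r.homEquiv_comp]
  exact toRS_res g _

theorem cl_eq (g : T ⟶ P) : cl r g = (cl r (𝟙 P)).map g := by
  rw [← cl_comp, Category.comp_id]

/-- The power map. -/
noncomputable def nu (q : ℕ) : P ⟶ P := classify r (rpow (cl r (𝟙 P)) q)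

theorem cl_nu (q : ℕ) (g : T ⟶ P) : cl r (g ≫ nu r q) = rpow (cl r g) q := by
  rw [cl_comp, nu, cl_classify, rpow_map, ← cl_eq]

/-- Translation by a rational class. -/
noncomputable def mu (b : RS f σ hσ K0) : P ⟶ P := classify r (rmul (cl r (𝟙 P)) (b.map (toK0 P)))

theorem cl_mu (b : RS f σ hσ K0) (g : T ⟶ P) :
    cl r (g ≫ mu r b) = rmul (cl r g) (b.map (toK0 T)) := by
  rw [cl_comp, mu, cl_classify, rmul_map, ← cl_eq, map_map, toK0_unique (g ≫ toK0 P)]

theorem isIso_mu (b : RS f σ hσ K0) : IsIso (mu r b) := by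
  have key : ∀ b : RS f σ hσ K0, mu r b ≫ mu r (rinv b) = 𝟙 P := fun b => by
    apply cl_injective r
    refine (cl_mu r (rinv b) (mu r b)).trans (Subtype.ext ?_)
    show (cl r (mu r b)).1 * ((rinv b).map (toK0 P)).1 = _
    rw [mu, cl_classify]
    show (cl r (𝟙 P)).1 * pull _ b.1 * pull _ b.1⁻¹ = (cl r (𝟙 P)).1
    rw [map_inv, mul_inv_cancel_right]
  refine ⟨mu r (rinv b), key b, ?_⟩
  have := key (rinv b)
  rwa [show rinv (rinv b) = b from Subtype.ext (inv_inv b.1)] at this

/-- The power map is étale. -/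
theorem etale_nu (hf : IsPtCurve f) [Smooth P.hom] (q : ℕ) (hq : (q : k) ≠ 0) :
    Etale (nu r q).left := by
  haveI : LocallyOfFiniteType ((nu r q).left ≫ P.hom) := by rw [Over.w]; infer_instance
  haveI : LocallyOfFiniteType (nu r q).left := locallyOfFiniteType_of_comp _ P.hom
  haveI : IsLocallyNoetherian P.left := LocallyOfFiniteType.isLocallyNoetherian P.hom
  refine (Groth.Agent.S1489.result _).2 ⟨inferInstance, fun A _ I hI a b w => ?_⟩
  obtain ⟨l₀, hl₀, hl₀'⟩ := Groth.Reductive.MTInt.isFormallySmoothHom_of_smooth' P.hom A I hI a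
    (b ≫ P.hom) (by rw [reassoc_of% w, Over.w])
  let TA : Over (Spec (CommRingCat.of k)) := Over.mk (b ≫ P.hom)
  let T₀ : Over (Spec (CommRingCat.of k)) :=
    Over.mk (Spec.map (CommRingCat.ofHom (Ideal.Quotient.mk I)) ≫ TA.hom)
  let i : T₀ ⟶ TA := Over.homMk (Spec.map (CommRingCat.ofHom (Ideal.Quotient.mk I))) rfl
  let a' : T₀ ⟶ P := Over.homMk a (by
    show a ≫ P.hom = Spec.map _ ≫ b ≫ P.hom
    rw [reassoc_of% w, Over.w])
  let b' : TA ⟶ P := Over.homMk b rfl
  let l' : TA ⟶ P := Over.homMk l₀ hl₀'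
  have hil : i ≫ l' = a' := Over.OverMorphism.ext hl₀
  have hib : i ≫ b' = a' ≫ nu r q := Over.OverMorphism.ext w
  let c₁ := cl r l'
  let t := PicF.XTmap f i
  have hfot : MoreMor.IsFirstOrderThickening t :=
    Groth.OmegaSheaf.UnivThick.fot_baseChange (XTmap_sq f i)
      (Groth.FlatmorThree.FormalLift.isFirstOrderThickening_specMap_mk I hI)
  haveI : IsClosedImmersion t := hfot.1.1
  have hsurj : Function.Surjective t.appTop := by
    intro y
    obtain ⟨z, rfl⟩ := (hf.constFun T₀ ⊤).2 y
    have hsq : (PicF.XTproj f TA).appTop ≫ t.appTop = i.left.appTop ≫ (PicF.XTproj f T₀).appTop := by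
      rw [← Scheme.Hom.comp_appTop, ← Scheme.Hom.comp_appTop]
      exact congrArg (fun m => m.appTop) (XTmap_snd f i)
    obtain ⟨z', hz'⟩ : ∃ z', i.left.appTop z' = z := by
      haveI : IsClosedImmersion i.left :=
        IsClosedImmersion.spec_of_surjective _ Ideal.Quotient.mk_surjective
      haveI : IsAffine TA.left := inferInstanceAs (IsAffine (Spec _))
      exact i.left.app_surjective ⊤ (isAffineOpen_top _) z
    refine ⟨(PicF.XTproj f TA).appTop z', ?_⟩
    have := congrArg (fun m => m.hom z') hsq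
    simp only [CommRingCat.hom_comp, RingHom.comp_apply] at this
    rw [this, hz']
    rfl
  have hqu : IsUnit (q : Γ(PicF.XT f TA, ⊤)) := by
    have := (IsUnit.mk0 (q : k) hq).map
      ((Scheme.ΓSpecIso (CommRingCat.of k)).inv ≫ (PicF.XTproj f TA ≫ TA.hom).appTop).hom
    rwa [map_natCast] at this
  have hd : pull t ((cl r b').1 / c₁.1 ^ q) = 1 := by
    have h1 : pull t (cl r b').1 = (pull t c₁.1) ^ q := by
      have := congrArg Subtype.val (cl_comp r i b')
      rw [hib, cl_nu, ← hil, cl_comp] at this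
      exact this.symm
    rw [map_div, map_pow, h1, div_self']
  obtain ⟨d, ⟨hd1, hdq⟩, hdu⟩ := existsUnique_root t hfot.2 hsurj q hqu hd
  have hdn : (norm f σ hσ TA d).1 = d := by
    refine hdu _ ⟨?_, ?_⟩
    · have := congrArg Subtype.val (norm_map (σ := σ) (hσ := hσ) i d)
      refine this.trans ?_
      show (norm f σ hσ T₀ (pull t d)).1 = 1
      rw [hd1]
      show (1 : PicLoc.PicSet _) * _ = 1
      rw [map_one, map_one, inv_one, mul_one]
    · show (d * _) ^ q = _
      rw [mul_pow, inv_pow, ← map_pow, ← map_pow, hdq, map_div, map_pow, (cl r b').2, c₁.2, one_pow,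
        div_self', map_one, inv_one, mul_one]
  let e : RS f σ hσ TA := rmul c₁ (norm f σ hσ TA d)
  refine ⟨(classify r e).left, ⟨?_, ?_⟩, fun l hl => ?_⟩
  · refine congrArg (fun m : T₀ ⟶ P => m.left) (show i ≫ classify r e = a' from ?_)
    apply cl_injective r
    rw [cl_comp, cl_classify, rmul_map, ← hil, cl_comp]
    refine Subtype.ext ?_
    show pull t c₁.1 * pull t (norm f σ hσ TA d).1 = pull t c₁.1
    rw [hdn, hd1, mul_one]
  · refine congrArg (fun m : TA ⟶ P => m.left) (show classify r e ≫ nu r q = b' from ?_)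
    apply cl_injective r
    rw [cl_nu, cl_classify]
    refine Subtype.ext ?_
    show (c₁.1 * (norm f σ hσ TA d).1) ^ q = (cl r b').1
    rw [hdn, mul_pow, hdq, mul_div_cancel]
  · let l'' : TA ⟶ P := Over.homMk l (by
      show l ≫ P.hom = b ≫ P.hom
      rw [← hl.2, Category.assoc, Over.w])
    refine congrArg (fun m : TA ⟶ P => m.left) (show l'' = classify r e from ?_)
    apply cl_injective r
    rw [cl_classify]
    have h2 : (cl r l'').1 / c₁.1 = d := by
      refine hdu _ ⟨?_, ?_⟩
      · have := congrArg Subtype.val (cl_comp r i l'')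
        rw [show i ≫ l'' = a' from Over.OverMorphism.ext hl.1, ← hil, cl_comp] at this
        rw [map_div]
        exact div_eq_one.2 this.symm
      · rw [div_pow]
        have := congrArg Subtype.val (cl_nu r q l'')
        rw [show l'' ≫ nu r q = b' from Over.OverMorphism.ext hl.2] at this
        rw [this]
        rfl
    refine Subtype.ext ?_
    show _ = c₁.1 * (norm f σ hσ TA d).1
    rw [hdn, ← h2, mul_div_cancel]

variable [IsAlgClosed k]

theorem isClosed_point [LocallyOfFiniteType P.hom] (g : K0 ⟶ P) :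
    IsClosed ({g.left (IsLocalRing.closedPoint k)} : Set P.left) :=
  ((pointEquivClosedPoint P.hom) ⟨g.left, Over.w g⟩).2

theorem hom_ext_point [LocallyOfFiniteType P.hom] {g h : K0 ⟶ P}
    (e : g.left (IsLocalRing.closedPoint k) = h.left (IsLocalRing.closedPoint k)) : g = h :=
  Over.OverMorphism.ext (ext_of_apply_closedPoint_eq P.hom (Over.w g) (Over.w h) e)

/-- Classes in a connected family through the trivial class are powers. -/
theorem exists_root_of_family (hf : IsPtCurve f) [Smooth P.hom] (q : ℕ) (hq : (q : k) ≠ 0)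
    (g : T ⟶ P) [ConnectedSpace T.left] (t t₀ : K0 ⟶ T) (h₀ : (cl r (t₀ ≫ g)).1 = 1) :
    ∃ a : RS f σ hσ K0, a.1 ^ q = (cl r (t ≫ g)).1 := by
  haveI := etale_nu r hf q hq
  haveI : JacobsonSpace P.left := LocallyOfFiniteType.jacobsonSpace P.hom
  haveI hflat := (Etale.iff_flat_and_formallyUnramified.mp (inferInstance : Etale (nu r q).left))
  haveI := hflat.1
  haveI := hflat.2.2
  let U : Set P.left := Set.range (nu r q).left
  have hUo : IsOpen U := ((nu r q).left.isOpenMap).isOpen_range
  -- rational points over closed points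
  have hlift : ∀ (φ : P ⟶ P) (x : K0 ⟶ P),
      x.left (IsLocalRing.closedPoint k) ∈ Set.range φ.left → ∃ y : K0 ⟶ P, y ≫ φ = x := by
    intro φ x hx
    have hne : (φ.left ⁻¹' {x.left (IsLocalRing.closedPoint k)}).Nonempty := by
      obtain ⟨z, hz⟩ := hx; exact ⟨z, hz⟩
    obtain ⟨y, hy, hyc⟩ := nonempty_inter_closedPoints hne
      ((isClosed_point x).preimage φ.left.continuous).isLocallyClosed
    let y' : K0 ⟶ P := Over.homMk (pointOfClosedPoint P.hom y hyc) (pointOfClosedPoint_comp P.hom y hyc)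
    refine ⟨y', hom_ext_point ?_⟩
    show φ.left ((pointOfClosedPoint P.hom y hyc) (IsLocalRing.closedPoint k)) = _
    rw [pointOfClosedPoint_apply]
    exact hy
  have hmem : ∀ x : K0 ⟶ P, x.left (IsLocalRing.closedPoint k) ∈ U ↔
      ∃ a : RS f σ hσ K0, a.1 ^ q = (cl r x).1 := by
    intro x
    constructor
    · intro hx
      obtain ⟨y, hy⟩ := hlift _ x hx
      exact ⟨cl r y, (congrArg Subtype.val ((cl_nu r q y).symm.trans (by rw [hy])))⟩
    · rintro ⟨a, ha⟩
      have : classify r a ≫ nu r q = x := cl_injective r (by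
        rw [cl_nu, cl_classify]; exact Subtype.ext ha)
      exact ⟨(classify r a).left (IsLocalRing.closedPoint k), by rw [← this]; rfl⟩
  have hUc : IsOpen Uᶜ := by
    refine isOpen_iff_forall_mem_open.2 fun z hz => ?_
    obtain ⟨w, hw, hwc⟩ := nonempty_inter_closedPoints (Z := closure {z})
      ⟨z, subset_closure rfl⟩ isClosed_closure.isLocallyClosed
    have hzw : z ⤳ w := specializes_iff_mem_closure.2 hw
    have hwU : w ∉ U := fun h => hz (hzw.mem_open hUo h)
    let x : K0 ⟶ P := Over.homMk (pointOfClosedPoint P.hom w hwc) (pointOfClosedPoint_comp P.hom w hwc)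
    have hxw : x.left (IsLocalRing.closedPoint k) = w := pointOfClosedPoint_apply P.hom w hwc _
    let φ := nu r q ≫ mu r (cl r x)
    haveI := isIso_mu r (cl r x)
    haveI : IsIso (mu r (cl r x)).left :=
      inferInstanceAs (IsIso ((Over.forget _).map (mu r (cl r x))))
    have hφo : IsOpenMap φ.left := by
      exact ((mu r (cl r x)).left.isOpenMap).comp (nu r q).left.isOpenMap
    have hφ : ∀ y : K0 ⟶ P, (cl r (y ≫ φ)).1 = (cl r y).1 ^ q * (cl r x).1 := by
      intro y
      rw [← Category.assoc, cl_mu, cl_nu, ← toK0_unique (𝟙 K0), map_id]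
      rfl
    have hwV : w ∈ Set.range φ.left := by
      have h1 : classify r (norm f σ hσ K0 1) ≫ φ = x := cl_injective r (Subtype.ext (by
        rw [hφ, cl_classify]
        show (1 * _) ^ q * _ = _
        rw [map_one, map_one, inv_one, one_mul, one_pow, one_mul]))
      exact ⟨(classify r (norm f σ hσ K0 1)).left (IsLocalRing.closedPoint k), by rw [← hxw, ← h1]; rfl⟩
    refine ⟨Set.range φ.left, fun v hv hvU => ?_, hφo.isOpen_range, hzw.mem_open hφo.isOpen_range hwV⟩
    obtain ⟨v', ⟨hv'₁, hv'₂⟩, hv'c⟩ := nonempty_inter_closedPoints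
      (Z := Set.range φ.left ∩ U) ⟨v, hv, hvU⟩ (hφo.isOpen_range.inter hUo).isLocallyClosed
    let y : K0 ⟶ P := Over.homMk (pointOfClosedPoint P.hom v' hv'c) (pointOfClosedPoint_comp P.hom v' hv'c)
    have hyv : y.left (IsLocalRing.closedPoint k) = v' := pointOfClosedPoint_apply P.hom v' hv'c _
    obtain ⟨a, ha⟩ := (hmem y).1 (hyv.symm ▸ hv'₂)
    obtain ⟨e, he⟩ := hlift φ y (hyv.symm ▸ hv'₁)
    apply hwU
    rw [← hxw]
    refine (hmem x).2 ⟨rmul a (rinv (cl r e)), ?_⟩
    show (a.1 * (cl r e).1⁻¹) ^ q = _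
    rw [mul_pow, inv_pow, ha, ← he, hφ, mul_inv_cancel_comm]
  have hclo : IsClopen (g.left ⁻¹' U) :=
    ⟨(isOpen_compl_iff.1 hUc).preimage g.left.continuous, hUo.preimage g.left.continuous⟩
  have huniv : g.left ⁻¹' U = Set.univ := by
    refine hclo.eq_univ ⟨t₀.left (IsLocalRing.closedPoint k), ?_⟩
    show (t₀ ≫ g).left (IsLocalRing.closedPoint k) ∈ U
    exact (hmem _).2 ⟨norm f σ hσ K0 1, by
      rw [h₀]
      show (1 * _) ^ q = _
      rw [map_one, map_one, inv_one, one_mul, one_pow]⟩
  refine (hmem _).1 ?_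
  show g.left (t.left (IsLocalRing.closedPoint k)) ∈ U
  exact huniv.ge (Set.mem_univ (t.left (IsLocalRing.closedPoint k)))

end Rep

/-- Degree zero classes on a smooth proper connected curve over an algebraically closed field are
`q`-th powers for `q` prime to the characteristic. -/
theorem exists_root_of_smooth (k : Type u) [Field k] [IsAlgClosed k] (C : Scheme.{u})
    [C.Over (Spec (CommRingCat.of k))] [IsProper (C ↘ Spec (CommRingCat.of k))]
    [Smooth (C ↘ Spec (CommRingCat.of k))] [ConnectedSpace C] (hdim : topologicalKrullDim C = 1)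
    (q : ℕ) (hq : (q : k) ≠ 0) (L : C.Modules) (hL : PicF.IsInvertible L)
    (h0 : Pic13.curveDeg k (C ↘ Spec (CommRingCat.of k)) L = 0) :
    ∃ d : PicLoc.PicSet C, d ^ q = PicGrp.cls L hL := by
  let p := C ↘ Spec (CommRingCat.of k)
  haveI hint : IsIntegral C := Groth.CurveBridge.isIntegral_of_smooth k C
  haveI : JacobsonSpace C := LocallyOfFiniteType.jacobsonSpace p
  obtain ⟨x, -, hx⟩ := nonempty_inter_closedPoints (Z := (Set.univ : Set C)) Set.univ_nonempty
    isOpen_univ.isLocallyClosed
  let σ := pointOfClosedPoint p x hx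
  have hσ : σ ≫ p = 𝟙 _ := pointOfClosedPoint_comp p x hx
  have hf : IsPtCurve p := isPtCurve ⟨inferInstance, inferInstance, hint, hdim⟩ σ hσ
  obtain ⟨P, hP, ⟨r⟩⟩ := exists_smooth_representableBy (σ := σ) (hσ := hσ) hf
  obtain ⟨T, qT, hT, -, -, M, hM, t, t₀, ht, ht₀, ⟨et⟩, ⟨et₀⟩⟩ :=
    (Groth.Agent.S12411.result k C hdim L hL).2 h0
  let T' : Over (Spec (CommRingCat.of k)) := Over.mk qT
  haveI : ConnectedSpace T'.left := hT
  let g : T' ⟶ P := classify r (PicCurve.norm p σ hσ T' (PicGrp.cls (Y := PicF.XT p T') M hM))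
  let j : C ⟶ PicF.XT p (K0 (k := k)) := pullback.lift (𝟙 C) p (by
    rw [Category.id_comp]; exact (Category.comp_id p).symm)
  have hfj : pullback.fst p (K0 (k := k)).hom ≫ j = 𝟙 _ := by
    apply pullback.hom_ext
    · rw [Category.assoc, pullback.lift_fst, Category.comp_id, Category.id_comp]
    · rw [Category.assoc, pullback.lift_snd, Category.id_comp, pullback.condition]
      exact Category.comp_id _
  have hval : ∀ (s : Spec (CommRingCat.of k) ⟶ T) (hs : s ≫ qT = 𝟙 _),
      pull j (cl r (Over.homMk (U := K0) (V := T') s hs ≫ g)).1 =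
        PicGrp.cls (Pic13.fibreMod k C qT s hs M) (PicLoc.isInvertible_pullback _ hM) := by
    intro s hs
    rw [cl_comp, cl_classify, PicCurve.norm_map]
    show pull j (_ * _) = _
    rw [map_mul, pic_specField (pull (PicF.secT p σ hσ K0) _), map_one, inv_one, map_one, mul_one,
      ← pull_comp, pull_cls]
    congr 1
    refine congrArg (fun m : C ⟶ Pic13.prodK k C qT => (Scheme.Modules.pullback m).obj M) ?_
    apply pullback.hom_ext
    · simp [Pic13.sliceAt, j, PicF.XTmap, p]
      try exact (pullback.lift_fst _ _ _).symm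
    · simp [Pic13.sliceAt, j, PicF.XTmap, p]
      try exact (pullback.lift_snd _ _ _).symm
  have hj : Function.Injective (pull j) := fun a b e => by
    have := congrArg (pull (pullback.fst p (K0 (k := k)).hom)) e
    rwa [← pull_comp, ← pull_comp, hfj, pull_id, pull_id] at this
  have h₀ : (cl r (Over.homMk (U := K0) (V := T') t₀ ht₀ ≫ g)).1 = 1 := by
    refine hj ?_
    rw [hval t₀ ht₀, map_one]
    exact (PicGrp.cls_eq_one_iff _).2 ⟨et₀⟩
  obtain ⟨a, ha⟩ := exists_root_of_family r hf q hq g
    (Over.homMk (U := K0) (V := T') t ht) (Over.homMk (U := K0) (V := T') t₀ ht₀) h₀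
  refine ⟨pull j a.1, ?_⟩
  rw [← map_pow, ha, hval t ht]
  exact (PicGrp.cls_eq_cls_iff _ hL).2 ⟨et⟩

end Groth.ModelsGraphs.PicDiv
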