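import Groth.Agent.ModelsGraphs.PicDiv.Smooth
import Groth.Agent.ModelsGraphs.PicDiv.Descend
import Groth.Agent.Inter.NumPullback
import Groth.Agent.CurveNorm.Main
import Groth.Agent.BMCoh.Birational
import Groth.Agent.Curves1.CurveMor.Smooth
import Groth.Agent.AbVarMul.Consequences
import Groth.Agent.LocImm.NormalizationBirational
import Groth.Prelude.Def_Curv2

/-!
# Divisibility of degree zero classes on integral proper curves
-/

set_option autoImplicit false
set_option linter.style.haveILetI false

universe u

open CategoryTheory CategoryTheory.Limits AlgebraicGeometry TopologicalSpace Opposite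
open scoped Groth.Abvar.PicCalc

set_option maxHeartbeats 1600000
set_option backward.isDefEq.respectTransparency false
set_option backward.defeqAttrib.useBackward true
set_option backward.isDefEq.respectTransparency.types false

namespace Groth.ModelsGraphs.PicDiv

open Groth.VarietyBC.PicGlue (toPieces)

/-- A closed set of closed points in a Noetherian scheme is finite. -/
theorem finite_of_closed_points {X : Scheme.{u}} [IsNoetherian X] {Z : Set X} (hZ : IsClosed Z)
    (h : ∀ x ∈ Z, IsClosed ({x} : Set X)) : Z.Finite := by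
  obtain ⟨T, hT, hTc, hTi, hU⟩ := NoetherianSpace.exists_finite_set_isClosed_irreducible hZ
  rw [hU]
  refine hT.sUnion fun C hC => ?_
  obtain ⟨η, hη⟩ := QuasiSober.sober (hTi C hC) (hTc C hC)
  have hηZ : η ∈ Z := hU ▸ Set.mem_sUnion_of_mem hη.mem hC
  rw [← hη.def, (h η hηZ).closure_eq]
  exact Set.finite_singleton η

/-- Degree zero invertible modules on an integral curve are curve equivalent to the structure sheaf. -/
theorem curveEq_of_deg_zero (k : Type u) [Field k] (X : Scheme.{u}) [X.Over (Spec (CommRingCat.of k))]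
    [IsIntegral X] [IsProper (X ↘ Spec (CommRingCat.of k))] (hdim : topologicalKrullDim X = 1)
    {L : X.Modules} (hL : PicF.IsInvertible L)
    (h0 : Pic13.curveDeg k (X ↘ Spec (CommRingCat.of k)) L = 0) :
    Groth.Inter.CurveEq k L (Coh.structureModule X) := by
  have hO := Groth.EulerDeg.isInvertible_structureModule X
  refine Groth.Inter.curveEq_of_curveDeg k hL hO fun Y ι _ hY hdY => ?_
  haveI := hY
  haveI : Surjective ι := by
    refine ⟨fun x => ?_⟩
    by_contra hx
    have h1 : (Set.range ι : Set X) ≠ Set.univ := fun h => hx (h.ge (Set.mem_univ x))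
    have h2 : genericPoint X ∉ Set.range ι := fun hg => h1 (Set.eq_univ_of_univ_subset
      ((genericPoint_spec X).ge.trans
        (closure_minimal (Set.singleton_subset_iff.2 hg) ι.isClosedEmbedding.isClosed_range)))
    have h3 : (ι (genericPoint Y)) ≠ genericPoint X := fun h => h2 ⟨_, h⟩
    obtain ⟨y, hy⟩ : ∃ y : Y, ¬ IsClosed ({y} : Set Y) := by
      by_contra hall
      push_neg at hall
      have hgen := (hall (genericPoint Y)).closure_eq.symm.trans (genericPoint_spec Y)
      haveI : Subsingleton Y := ⟨fun a b => by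
        have ha : a ∈ ({genericPoint Y} : Set Y) := hgen.ge (Set.mem_univ a)
        have hb : b ∈ ({genericPoint Y} : Set Y) := hgen.ge (Set.mem_univ b)
        exact ha.trans hb.symm⟩
      have := topologicalKrullDim_zero_of_discreteTopology Y
      rw [hdY] at this
      exact not_le.2 zero_lt_one this
    have hg : ι y = genericPoint X :=
      (@Groth.EulerDeg.eq_of_specializes_of_not_isClosed X.toTopCat (inferInstanceAs (T0Space X))
        (inferInstance : QuasiSober X) hdim.le (ι y) (genericPoint X)
        (fun hc => hy (by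
          have := hc.preimage ι.continuous
          rwa [show ι ⁻¹' {ι y} = {y} from Set.ext fun z => ⟨fun hz => ι.isClosedEmbedding.injective hz,
            fun hz => congrArg ι hz⟩] at this))
        (genericPoint_specializes (α := X) (ι y))).symm
    exact h2 ⟨y, hg⟩
  haveI : IsIso ι := isIso_of_isClosedImmersion_of_surjective ι
  letI : Y.Over (Spec (CommRingCat.of k)) := ⟨ι ≫ X ↘ Spec (CommRingCat.of k)⟩
  haveI : IsIso (ClSub.unitToPush ι) := by
    rw [Scheme.Modules.Hom.isIso_iff_isIso_app]
    intro U
    rw [ConcreteCategory.isIso_iff_bijective]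
    exact ConcreteCategory.bijective_of_isIso (ι.app U)
  have e : Coh.structureModule X ≅ (Coh.push ι).obj (Coh.structureModule Y) := asIso (ClSub.unitToPush ι)
  have key : ∀ {M : X.Modules}, PicF.IsInvertible M →
      Pic13.curveDeg k (ι ≫ X ↘ Spec (CommRingCat.of k)) ((Scheme.Modules.pullback ι).obj M) =
        Pic13.curveDeg k (X ↘ Spec (CommRingCat.of k)) M := by
    intro M hM
    rw [Groth.Inter.curveDeg_eq k ι hM hdY.le]
    show _ = FGA.eulerCharLE k X M 1 - FGA.eulerCharLE k X (Coh.structureModule X) 1
    rw [Groth.Inter.eulerCharLE_eq k (hdim.le : topologicalKrullDim X ≤ ((1 : ℕ) : WithBot ℕ∞)),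
      Groth.Inter.eulerCharLE_eq k (hdim.le : topologicalKrullDim X ≤ ((1 : ℕ) : WithBot ℕ∞))]
    rw [Groth.Inter.delta_cons, Groth.Inter.delta_nil, Groth.Inter.delta_nil,
      ← Groth.EulerDeg.euler_congr k (Groth.Inter.tensor_congr ⟨Iso.refl M⟩ ⟨e⟩).some,
      Groth.EulerDeg.euler_congr k ((Groth.Inter.tensor_comm _ _).some ≪≫ (Groth.Inter.tensor_one M).some), ← Groth.EulerDeg.euler_congr k e]
    ring
  rw [key hL, key hO, h0]
  exact (sub_self _).symm

/-- Degree zero classes on an integral proper curve over an algebraically closed field are `q`-th powers. -/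
theorem exists_root_of_integral (k : Type u) [Field k] [IsAlgClosed k] (X : Scheme.{u})
    [X.Over (Spec (CommRingCat.of k))] [IsIntegral X] [IsProper (X ↘ Spec (CommRingCat.of k))]
    (hdim : topologicalKrullDim X = 1) (q : ℕ) (hq : (q : k) ≠ 0) (L : X.Modules) (hL : PicF.IsInvertible L)
    (h0 : Pic13.curveDeg k (X ↘ Spec (CommRingCat.of k)) L = 0) :
    ∃ d : PicLoc.PicSet X, d ^ q = PicGrp.cls L hL := by
  haveI : CompactSpace X := QuasiCompact.compactSpace_of_compactSpace (X ↘ Spec (CommRingCat.of k))
  haveI : IsLocallyNoetherian X := LocallyOfFiniteType.isLocallyNoetherian (X ↘ Spec (CommRingCat.of k))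
  haveI : IsNoetherian X := ⟨⟩
  let f := X.fromSpecStalk (genericPoint X)
  haveI : QuasiCompact f := inferInstance
  haveI : QuasiSeparated f := inferInstance
  let N := Curv2.normalization X
  let ν : N ⟶ X := Curv2.normalizationι X
  haveI hfin : IsFinite ν := by
    change IsFinite (X.fromSpecStalk (genericPoint X)).fromNormalization
    exact Groth.CurveNorm.isFinite_fromNormalization X X.functionField (RingHom.id _)
      (X.fromSpecStalk (genericPoint X)) (by simp) k (X ↘ Spec (CommRingCat.of k)) inferInstance
      (RingHom.Finite.id _)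
  haveI : IsProper (Curv2.normalizationι X) := inferInstanceAs (IsProper ν)
  obtain ⟨D, hD, hiso⟩ := Groth.BMCohLib.exists_isIso_normalizationι X
  letI : N.Over (Spec (CommRingCat.of k)) := ⟨ν ≫ X ↘ Spec (CommRingCat.of k)⟩
  haveI : IsProper (N ↘ Spec (CommRingCat.of k)) :=
    inferInstanceAs (IsProper (ν ≫ X ↘ Spec (CommRingCat.of k)))
  haveI : IsIntegral N := inferInstanceAs (IsIntegral f.normalization)
  haveI : IsDominant ν := by
    refine ⟨?_⟩
    rw [DenseRange, dense_iff_closure_eq]
    refine Set.eq_univ_of_univ_subset ((genericPoint_spec X).ge.trans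
      (closure_mono (Set.singleton_subset_iff.2 ?_)))
    have hp := f.toNormalization_fromNormalization
    refine ⟨f.toNormalization (IsLocalRing.closedPoint _), ?_⟩
    exact (congrArg (fun m : Spec (X.presheaf.stalk (genericPoint X)) ⟶ X => m (IsLocalRing.closedPoint _)) hp).trans
      X.fromSpecStalk_closedPoint
  haveI : Surjective ν := ⟨fun x => by
    have h1 := ν.isClosedMap.isClosed_range.closure_eq
    have h2 : closure (Set.range ν) = Set.univ := ν.denseRange.closure_eq
    exact (h1.symm.trans h2).ge (Set.mem_univ x)⟩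
  have hdN : topologicalKrullDim N = 1 :=
    (Groth.AbVarMul.topologicalKrullDim_eq_of_finite_surjective ν).trans hdim
  haveI : ∀ n : N, IsIntegrallyClosed (N.presheaf.stalk n) := fun n =>
    Groth.LocImmersion.NormalizationBirational.isIntegrallyClosed_stalk f (fun x => by
      have : Subsingleton ↥(Spec (X.presheaf.stalk (genericPoint X))) :=
        inferInstanceAs (Subsingleton (PrimeSpectrum X.functionField))
      have hx : x = genericPoint ↥(Spec (X.presheaf.stalk (genericPoint X))) := Subsingleton.elim _ _
      subst hx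
      let _ : Field ((Spec (X.presheaf.stalk (genericPoint X))).presheaf.stalk
          (genericPoint ↥(Spec (X.presheaf.stalk (genericPoint X))))) :=
        inferInstanceAs (Field (Spec (X.presheaf.stalk (genericPoint X))).functionField)
      infer_instance) n
  haveI : Smooth (N ↘ Spec (CommRingCat.of k)) := by
    haveI : LocallyOfFinitePresentation (N ↘ Spec (CommRingCat.of k)) := inferInstance
    haveI : JacobsonSpace N := LocallyOfFiniteType.jacobsonSpace (N ↘ Spec (CommRingCat.of k))
    rw [← Scheme.Hom.smoothLocus_eq_top_iff]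
    refine top_le_iff.1 fun n _ => ?_
    obtain ⟨m, hm, hmc⟩ := nonempty_inter_closedPoints (Z := closure {n})
      ⟨n, subset_closure rfl⟩ isClosed_closure.isLocallyClosed
    refine (specializes_iff_mem_closure.2 hm).mem_open
      (N ↘ Spec (CommRingCat.of k)).smoothLocus.isOpen ?_
    refine Groth.Curves1.CurveMor.mem_smoothLocus_of_normal hdN.le m ?_
    letI := Curv2.resAlgebra k N m
    haveI : Module.Finite k (N.residueField m) :=
      Groth.Curves1.CurveMor.finite_residueField_of_isClosed hmc
    infer_instance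
  haveI : ConnectedSpace N := inferInstance
  have hdeg : Pic13.curveDeg k (N ↘ Spec (CommRingCat.of k)) ((Scheme.Modules.pullback ν).obj L) = 0 := by
    have hLN := PicLoc.isInvertible_pullback ν hL
    have hO := Groth.EulerDeg.isInvertible_structureModule X
    have h1 := Groth.Inter.curveDeg_of_curveEq k hLN (PicLoc.isInvertible_pullback ν hO)
      (Groth.Inter.curveEq_pullback k ν rfl hL hO (curveEq_of_deg_zero k X hdim hL h0)) N (𝟙 N) hdN
    obtain ⟨e₁⟩ : Nonempty ((Scheme.Modules.pullback (𝟙 N)).obj ((Scheme.Modules.pullback ν).obj L) ≅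
        (Scheme.Modules.pullback ν).obj L) := ⟨(Scheme.Modules.pullbackId N).app _⟩
    obtain ⟨e₂⟩ : Nonempty ((Scheme.Modules.pullback (𝟙 N)).obj
        ((Scheme.Modules.pullback ν).obj (Coh.structureModule X)) ≅ Coh.structureModule N) :=
      ⟨(Scheme.Modules.pullbackId N).app _ ≪≫ (Groth.PicAux.pullback_structure_iso ν).some⟩
    rw [Category.id_comp] at h1
    unfold Pic13.curveDeg at h1 ⊢
    rw [Groth.Inter.eulerCharLE_eq k (hdN.le : topologicalKrullDim N ≤ ((1 : ℕ) : WithBot ℕ∞)),
      Groth.Inter.eulerCharLE_eq k (hdN.le : topologicalKrullDim N ≤ ((1 : ℕ) : WithBot ℕ∞)),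
      Groth.Inter.eulerCharLE_eq k (hdN.le : topologicalKrullDim N ≤ ((1 : ℕ) : WithBot ℕ∞)),
      Groth.EulerDeg.euler_congr k e₁, Groth.EulerDeg.euler_congr k e₂, sub_self] at h1
    rw [Groth.Inter.eulerCharLE_eq k (hdN.le : topologicalKrullDim N ≤ ((1 : ℕ) : WithBot ℕ∞)),
      Groth.Inter.eulerCharLE_eq k (hdN.le : topologicalKrullDim N ≤ ((1 : ℕ) : WithBot ℕ∞))]
    exact h1
  obtain ⟨d, hd⟩ := exists_root_of_smooth k N hdN q hq _ (PicLoc.isInvertible_pullback ν hL) hdeg
  let S : Set X := (D : Set X)ᶜ
  have hclosed : ∀ x ∈ S, IsClosed ({x} : Set X) := fun x hx => by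
    by_contra hnc
    have := @Groth.EulerDeg.eq_of_specializes_of_not_isClosed X.toTopCat (inferInstanceAs (T0Space X))
      (inferInstance : QuasiSober X) hdim.le x (genericPoint X) hnc (genericPoint_specializes (α := X) x)
    exact hx (this ▸ hD)
  have hS : S.Finite := finite_of_closed_points D.2.isClosed_compl hclosed
  have hinj : ∀ V : X.Opens, Function.Injective (toPieces (fun _ : PUnit.{u + 1} => ν) V) := fun V a b h =>
    haveI : IsSchemeTheoreticallyDominant ν := .of_isDominant ν
    ν.app_injective V (congrFun h ⟨⟩)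
  refine exists_root_descend (W := fun _ : PUnit.{u + 1} => N) (fun _ => ν) (X ↘ Spec (CommRingCat.of k)) S
    (fun V hV => ⟨hinj V, fun s => ?_⟩) hinj hS hclosed q hq _ fun _ => ⟨d, hd.trans (Groth.Abvar.PicCalc.pull_cls ν hL).symm⟩
  obtain ⟨a, ha⟩ := (Groth.VarietyBC.PicGlue.bijective_app_of_isIso_restrict ν D V
    (fun x hx => by_contra (hV x hx))).2 (s ⟨⟩)
  exact ⟨a, funext fun _ => ha⟩

end Groth.ModelsGraphs.PicDiv
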