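import Groth.Agent.PicCurve.Main

/-!
# The representing object of the rigidified Picard functor of a pointed curve is smooth

Charts of an atlas with smooth pieces give smoothness of any representing object.
-/

universe u

open CategoryTheory CategoryTheory.Limits AlgebraicGeometry TopologicalSpace Opposite
open Groth.Abvar.PicCalc
open Groth.HilbPts (pullObj)

set_option maxHeartbeats 1600000
set_option backward.isDefEq.respectTransparency false
set_option backward.defeqAttrib.useBackward true
set_option backward.isDefEq.respectTransparency.types false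

namespace Groth.ModelsGraphs.PicDiv

open Groth.Flatmor4.OverRep Groth.PicCurve

/-- An object representing a functor with an atlas is covered by open pieces isomorphic to the
pieces of the atlas. -/
theorem exists_chart_of_atlas {S : Scheme.{u}} {F : (Over S)ᵒᵖ ⥤ Type u} (D : Atlas F) {P : Over S}
    (r : F.RepresentableBy P) (x : P.left) : ∃ (i : D.ι) (V : P.left.Opens)
      (e : (D.H i).left ≅ V.toScheme), x ∈ V ∧ e.hom ≫ V.ι ≫ P.hom = (D.H i).hom := by
  let ξ : F.obj (op P) := r.homEquiv (𝟙 P)
  have hr : ∀ {T : Over S} (g : T ⟶ P), r.homEquiv g = res F g ξ := fun g => r.homEquiv_eq g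
  let W : ∀ i, Over S := fun i => Over.mk ((D.lc ξ i).ι ≫ P.hom)
  have hW : ∀ i, ∃ e : (D.H i).left ≅ (D.lc ξ i).toScheme, e.hom ≫ (D.lc ξ i).ι ≫ P.hom = (D.H i).hom := by
    intro i
    let a : W i ⟶ P := Over.homMk (D.lc ξ i).ι rfl
    obtain ⟨c, hc, -⟩ := D.univ i (W i) (res F a ξ)
      ((D.inP_pull_iff i a ξ).2 (Scheme.Opens.range_ι _).subset)
    let φ : D.H i ⟶ P := r.homEquiv.symm (D.Z i)
    have hφ : res F φ ξ = D.Z i := by rw [← hr, Equiv.apply_symm_apply]
    have hsub : Set.range φ.left ⊆ D.lc ξ i :=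
      (D.inP_pull_iff i φ ξ).1 (by rw [hφ, D.loc_self])
    let ψ : D.H i ⟶ W i := Over.homMk
      (IsOpenImmersion.lift (D.lc ξ i).ι φ.left (hsub.trans (Scheme.Opens.range_ι (D.lc ξ i)).ge))
      (by show _ ≫ _ ≫ _ = _; rw [IsOpenImmersion.lift_fac_assoc, Over.w φ])
    have hψ : ψ ≫ a = φ := by ext; exact IsOpenImmersion.lift_fac _ _ _
    have hca : c ≫ φ = a := by
      apply r.homEquiv.injective
      rw [hr, hr, ← res_res, hφ, hc]
    have h1 : ψ ≫ c = 𝟙 _ := D.hom_ext _ _ (by rw [← res_res, hc, res_res, hψ, hφ, res_id])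
    have h2 : c ≫ ψ = 𝟙 _ := by
      ext
      refine (cancel_mono (D.lc ξ i).ι).1 ?_
      have := congrArg (fun m : W i ⟶ P => m.left) ((Category.assoc c ψ a).trans ((congrArg (c ≫ ·) hψ).trans hca))
      exact this.trans (Category.id_comp _).symm
    exact ⟨⟨ψ.left, c.left, congrArg (fun m : D.H i ⟶ D.H i => m.left) h1,
      congrArg (fun m : W i ⟶ W i => m.left) h2⟩, Over.w ψ⟩
  obtain ⟨i, hi⟩ := D.cover P ξ x
  obtain ⟨e, he⟩ := hW i
  exact ⟨i, D.lc ξ i, e, hi, he⟩

/-- An object representing a functor with an atlas of smooth pieces is smooth. -/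
theorem smooth_of_atlas {S : Scheme.{u}} {F : (Over S)ᵒᵖ ⥤ Type u} (D : Atlas F) {P : Over S}
    (r : F.RepresentableBy P) (hH : ∀ i, Smooth (D.H i).hom) : Smooth P.hom := by
  choose i V e hV he using exists_chart_of_atlas D r
  have hsm : ∀ x, Smooth ((V x).ι ≫ P.hom) := fun x => by
    rw [← Iso.inv_hom_id_assoc (e x) ((V x).ι ≫ P.hom), he x]
    haveI := hH (i x)
    infer_instance
  let 𝒰 : Scheme.OpenCover.{u} P.left := Scheme.Cover.mkOfCovers P.left
    (fun x => (V x).toScheme) (fun x => (V x).ι)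
    (fun x => ⟨x, ⟨x, hV x⟩, rfl⟩) fun x => inferInstance
  exact (IsZariskiLocalAtSource.iff_of_openCover (P := @Smooth) 𝒰).2 hsm

variable {k : Type u} [Field k] {X : Scheme.{u}} {f : X ⟶ Spec (CommRingCat.of k)}
  {σ : Spec (CommRingCat.of k) ⟶ X} {hσ : σ ≫ f = 𝟙 (Spec (CommRingCat.of k))}

/-- The atlas of the rigidified Picard functor by the good locus in the space of divisors of degree
equal to the genus. -/
theorem exists_atlas [IsSepClosed k] (hf : IsPtCurve f) (H : Over (Spec (CommRingCat.of k)))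
    (Z : HilbD.Obj f (genus f) H) (hZ : HilbD.IsUniversal f (genus f) H Z) :
    ∃ D : Flatmor4.OverRep.Atlas (rigFun f σ hσ), ∀ i, ∃ O : H.left.Opens, D.H i = opn H O := by
  have := hf.geomIrr
  let O : H.left.Opens := goodOpens f hf (dC hf Z)
  let H₀ := opn H O
  let Z₀ : HilbD.Obj f (genus f) H₀ := pullObj (opnHom H O) Z
  have hZ₀ : ∀ z, GoodC (PicF.XTproj f H₀) (dC hf Z₀) z := fun z => by
    rw [← pull_dC, goodC_map_iff hf]
    exact z.2
  let N : Shrink.{u} (PicLoc.PicSet X) → PicLoc.PicSet X := (equivShrink _).symm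
  -- pulled universal elements
  have hres : ∀ (i : Shrink.{u} (PicLoc.PicSet X)) {T} (g : T ⟶ H₀),
      (norm f σ hσ H₀ (dC hf Z₀ * (tw H₀ (N i))⁻¹)).map g =
        norm f σ hσ T (dC hf (pullObj g Z₀) * (tw T (N i))⁻¹) := fun i T g => by
    rw [norm_map, map_mul, map_inv, pull_dC, tw_map]
  let D : Flatmor4.OverRep.Atlas (rigFun f σ hσ) :=
    { ι := Shrink.{u} (PicLoc.PicSet X)
      H := fun _ => H₀
      Z := fun i => ofRS (norm f σ hσ H₀ (dC hf Z₀ * (tw H₀ (N i))⁻¹))
      loc := fun i T a => goodOpens f hf ((toRS a).1 * tw T (N i))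
      loc_map := fun i T T' g a => by
        refine Opens.ext (Set.ext fun t => ?_)
        change GoodC _ ((toRS (Flatmor4.OverRep.res (rigFun f σ hσ) g a)).1 * tw T' (N i)) t ↔
          GoodC _ ((toRS a).1 * tw T (N i)) (g.left t)
        rw [← goodC_map_iff hf g, map_mul, tw_map, toRS_res]
        rfl
      loc_self := fun i => by
        refine (goodOpens_eq_top hf).2 fun z => ?_
        rw [toRS_ofRS, goodC_norm hf, inv_mul_cancel_right]
        exact hZ₀ z
      univ := fun i T a ha => by
        have hgood := (goodOpens_eq_top hf).1 ha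
        obtain ⟨W, hW⟩ := exists_divisor (σ := σ) (hσ := hσ) hf _ hgood
        obtain ⟨t, ht, -⟩ := hZ T W
        have htO : Set.range t.left ⊆ O := by
          rintro _ ⟨y, rfl⟩
          show GoodC _ (dC hf Z) (t.left y)
          rw [← goodC_map_iff hf t, pull_dC, dC_congr hf (W' := W) ht, ← mul_one (dC hf W),
            ← goodC_norm (σ := σ) (hσ := hσ) hf, hW, goodC_norm hf, mul_one]
          exact hgood y
        let t₀ : T ⟶ H₀ := Over.homMk
          (IsOpenImmersion.lift O.ι t.left (htO.trans (Scheme.Opens.range_ι O).ge))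
          (by simp [H₀, ← Category.assoc, IsOpenImmersion.lift_fac])
        have ht₀ : t₀ ≫ opnHom H O = t := Over.OverMorphism.ext (IsOpenImmersion.lift_fac _ _ _)
        have hpull : ∀ g : T ⟶ H₀, (pullObj g Z₀).1 = HilbD.pull f (g ≫ opnHom H O) Z.1 := fun g =>
          Groth.HilbPts.pull_pull f g (opnHom H O) Z.1
        have hnorm : norm f σ hσ T (dC hf W * (tw T (N i))⁻¹) = toRS a := by
          refine Eq.trans (Subtype.ext ?_) (norm_self (toRS a))
          rw [norm_mul, hW, norm_mul, mul_assoc, ← norm_mul, mul_inv_cancel]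
          exact (congrArg _ (show (norm f σ hσ T 1).1 = 1 by
            show (1 : PicLoc.PicSet _) * _ = 1
            rw [map_one, map_one, inv_one, mul_one])).trans (mul_one _)
        refine ⟨t₀, toRS_injective ?_, fun g hg => ?_⟩
        · rw [toRS_res, toRS_ofRS, hres, dC_congr hf (W' := W) (by rw [hpull, ht₀, ht]), hnorm]
        · have hg' := congrArg toRS hg
          rw [toRS_res, toRS_ofRS, hres, ← hnorm] at hg'
          have hgW : (pullObj g Z₀).1 = W.1 := by
            refine eq_of_norm_eq (σ := σ) (hσ := hσ) hf (fun z => ?_) (Subtype.ext ?_)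
            · rw [← pull_dC, goodC_map_iff hf]; exact hZ₀ _
            · have := congrArg Subtype.val hg'
              rw [norm_mul, norm_mul] at this
              exact mul_right_cancel this
          rw [hpull] at hgW
          have e : g ≫ opnHom H O = t := (hZ T W).unique hgW ht
          rw [← ht₀] at e
          refine Over.OverMorphism.ext ?_
          have e' := congrArg (fun m : T ⟶ H => m.left) e
          exact (cancel_mono O.ι).1 e'
      cover := fun T a t => by
        obtain ⟨M, hM⟩ := exists_goodC_twist hf σ hσ T (toRS a).1 t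
        refine ⟨equivShrink _ M, ?_⟩
        show GoodC _ ((toRS a).1 * tw T (N (equivShrink _ M))) t
        rw [show N (equivShrink _ M) = M from (equivShrink _).symm_apply_apply M]
        exact hM }
  exact ⟨D, fun i => ⟨O, rfl⟩⟩

/-- The rigidified Picard functor of a pointed curve is represented by a smooth scheme. -/
theorem exists_smooth_representableBy [IsSepClosed k] (hf : IsPtCurve f) :
    ∃ P : Over (Spec (CommRingCat.of k)), Smooth P.hom ∧ Nonempty ((rigFun f σ hσ).RepresentableBy P) := by
  have := hf.geomIrr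
  obtain ⟨H, Z, hZ, -, hHs⟩ := Groth.CurveDiv.exists_proper_smooth k X f hf.curve (genus f)
  obtain ⟨D, hD⟩ := exists_atlas (σ := σ) (hσ := hσ) hf H Z hZ
  have hrep : (rigFun f σ hσ).IsRepresentable := D.representable fun T 𝒰 => isSheafCover_rigFun hf.constFun T 𝒰
  obtain ⟨P, ⟨r⟩⟩ := hrep.has_representation
  refine ⟨P, smooth_of_atlas D r fun i => ?_, ⟨r⟩⟩
  obtain ⟨O, hO⟩ := hD i
  haveI := hHs
  rw [hO]
  show Smooth (O.ι ≫ H.hom)
  infer_instance

end Groth.ModelsGraphs.PicDiv
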