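import Groth.Agent.ModelsGraphs.PicKernel
import Mathlib.RingTheory.Jacobson.Artinian

/-!
# Roots of units modulo a finite birational subring

For a finite algebra `B` over a finite type algebra `A` over an algebraically closed field, equal to
`A` away from a maximal ideal `m`, units of `B` are, up to `q`-th powers of elements invertible over
`m`, elements of `A`.
-/

set_option autoImplicit false
set_option linter.style.haveILetI false

universe u

namespace Groth.ModelsGraphs.PicDiv

/-- A power of `m` is killed in the cokernel when powers of its elements are. -/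
theorem exists_pow_le_range {A B : Type u} [CommRing A] [IsNoetherianRing A] [CommRing B] [Algebra A B]
    [Module.Finite A B] (m : Ideal A)
    (h : ∀ f ∈ m, ∀ b : B, ∃ (n : ℕ) (a : A), algebraMap A B a = f ^ n • b) :
    ∃ N : ℕ, ∀ a ∈ m ^ N, ∀ b : B, ∃ a' : A, algebraMap A B a' = a • b := by
  classical
  let M : Submodule A B := LinearMap.range (Algebra.linearMap A B)
  obtain ⟨s, hs⟩ := Module.Finite.fg_top (R := A) (M := B)
  have hrad : m ≤ (⨅ b ∈ s, (M.colon {b} : Ideal A)).radical := by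
    intro f hf
    choose n a ha using h f hf
    refine ⟨∑ b ∈ s, n b, ?_⟩
    simp only [Ideal.mem_iInf]
    intro b hb
    rw [Submodule.mem_colon_singleton]
    refine ⟨f ^ ((∑ b ∈ s, n b) - n b) * a b, ?_⟩
    rw [Algebra.linearMap_apply, map_mul, ha, Algebra.smul_def, Algebra.smul_def, ← mul_assoc, ← map_mul,
      ← pow_add, Nat.sub_add_cancel (Finset.single_le_sum (fun _ _ => Nat.zero_le _) hb)]
  obtain ⟨N, hN⟩ := Ideal.exists_pow_le_of_le_radical_of_fg hrad (IsNoetherian.noetherian m)
  refine ⟨N, fun a ha b => ?_⟩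
  have hb : b ∈ Submodule.span A (s : Set B) := by rw [hs]; trivial
  suffices a • b ∈ M by obtain ⟨a', ha'⟩ := this; exact ⟨a', ha'⟩
  induction hb using Submodule.span_induction with
  | mem x hx =>
    have := hN ha
    simp only [Ideal.mem_iInf] at this
    exact Submodule.mem_colon_singleton.1 (this x hx)
  | zero => rw [smul_zero]; exact M.zero_mem
  | add x y _ _ hx hy => rw [smul_add]; exact M.add_mem hx hy
  | smul c x _ hx => rw [smul_comm]; exact M.smul_mem c hx

/-- Up to a `q`-th power, a unit of `B` lies in `A`. -/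
theorem exists_root_mod {k A B : Type u} [Field k] [IsAlgClosed k] [CommRing A] [CommRing B]
    [Algebra k A] [Algebra.FiniteType k A] [Algebra A B] [Module.Finite A B]
    (m : Ideal A) [m.IsMaximal] (h : ∀ f ∈ m, ∀ b : B, ∃ (n : ℕ) (a : A), algebraMap A B a = f ^ n • b)
    (q : ℕ) (hq : (q : k) ≠ 0) (u : B) (hu : IsUnit u) :
    ∃ g : B, (∀ P : Ideal B, P.IsPrime → m.map (algebraMap A B) ≤ P → g ∉ P) ∧
      g ^ q * u ∈ (algebraMap A B).range := by
  classical
  haveI : IsNoetherianRing A := Algebra.FiniteType.isNoetherianRing k A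
  obtain ⟨N, hN⟩ := exists_pow_le_range m h
  rcases Nat.eq_zero_or_pos N with hN0 | hN0
  · refine ⟨1, fun P hP _ => fun h1 => hP.ne_top ((Ideal.eq_top_iff_one P).2 h1), ?_⟩
    obtain ⟨a', ha'⟩ := hN 1 (by rw [hN0, pow_zero, Ideal.one_eq_top]; trivial) (1 ^ q * u)
    exact ⟨a', by rw [ha', one_smul]⟩
  let J : Ideal B := (m ^ N).map (algebraMap A B)
  letI : Algebra k B := ((algebraMap A B).comp (algebraMap k A)).toAlgebra
  haveI : IsScalarTower k A B := IsScalarTower.of_algebraMap_eq' rfl
  haveI : IsArtinianRing (A ⧸ m ^ N) := by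
    refine isArtinianRing_iff_isNoetherianRing_krullDimLE_zero.2 ⟨inferInstance, Ring.KrullDimLE.mk₀ fun P hP => ?_⟩
    have hle : m ≤ P.comap (Ideal.Quotient.mk (m ^ N)) := fun a ha =>
      (hP.comap (Ideal.Quotient.mk (m ^ N))).mem_of_pow_mem N (by
        rw [Ideal.mem_comap, Ideal.Quotient.eq_zero_iff_mem.2 (Ideal.pow_mem_pow ha N)]; exact P.zero_mem)
    have hmax : (P.comap (Ideal.Quotient.mk (m ^ N))).IsMaximal :=
      (‹m.IsMaximal›.eq_of_le (hP.comap _).ne_top hle) ▸ ‹m.IsMaximal›
    have := Ideal.Quotient.mk_surjective (I := m ^ N)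
    rw [← Ideal.map_comap_of_surjective _ this P]
    refine (Ideal.map_eq_top_or_isMaximal_of_surjective _ this hmax).resolve_left fun h => hP.ne_top ?_
    rwa [Ideal.map_comap_of_surjective _ this P] at h
  haveI : Algebra.FiniteType k (A ⧸ m ^ N) :=
    ‹Algebra.FiniteType k A›.of_surjective (Ideal.Quotient.mkₐ k _) Ideal.Quotient.mk_surjective
  haveI : Module.Finite k (A ⧸ m ^ N) := (Module.finite_iff_isArtinianRing k _).2 inferInstance
  letI : Algebra (A ⧸ m ^ N) (B ⧸ J) := (Ideal.quotientMap J (algebraMap A B) Ideal.le_comap_map).toAlgebra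
  haveI : IsScalarTower A (A ⧸ m ^ N) (B ⧸ J) := IsScalarTower.of_algebraMap_eq fun a => rfl
  haveI : IsScalarTower k (A ⧸ m ^ N) (B ⧸ J) := IsScalarTower.of_algebraMap_eq fun a => rfl
  haveI : Module.Finite (A ⧸ m ^ N) (B ⧸ J) := Module.Finite.of_restrictScalars_finite A _ _
  haveI : Module.Finite k (B ⧸ J) := Module.Finite.trans (A ⧸ m ^ N) _
  haveI : IsArtinianRing (B ⧸ J) := IsArtinianRing.of_finite k _
  have hqB : IsUnit (q : B ⧸ J) := by
    have := (IsUnit.mk0 (q : k) hq).map (algebraMap k (B ⧸ J))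
    rwa [map_natCast] at this
  obtain ⟨w, hw⟩ := Groth.ModelsGraphs.PicKernel.roots_of_units (k := k) (R := k) Function.surjective_id
    (by intro x hx; rw [show x = 0 from hx]; exact Submodule.zero_mem _) q hqB ((hu.map (Ideal.Quotient.mk J)).unit⁻¹)
  obtain ⟨g, hg⟩ := Ideal.Quotient.mk_surjective (w : B ⧸ J)
  refine ⟨g, fun P hP hmP hgP => ?_, ?_⟩
  · have hJP : J ≤ P := (Ideal.map_mono (Ideal.pow_le_self hN0.ne')).trans hmP
    obtain ⟨g', hg'⟩ := Ideal.Quotient.mk_surjective ((w⁻¹ : (B ⧸ J)ˣ) : B ⧸ J)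
    refine hP.ne_top ((Ideal.eq_top_iff_one P).2 ?_)
    have h1 : g * g' - 1 ∈ J := by
      rw [← Ideal.Quotient.eq_zero_iff_mem, map_sub, map_mul, hg, hg', map_one, ← Units.val_mul,
        mul_inv_cancel, Units.val_one, sub_self]
    have := P.sub_mem (P.mul_mem_right g' hgP) (hJP h1)
    rwa [sub_sub_cancel] at this
  · have h1 : g ^ q * u - 1 ∈ J := by
      rw [← Ideal.Quotient.eq_zero_iff_mem, map_sub, map_mul, map_pow, hg, map_one,
        ← Units.val_pow_eq_pow_val, hw, sub_eq_zero]
      exact (hu.map (Ideal.Quotient.mk J)).val_inv_mul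
    have h2 : ∀ x ∈ J, x ∈ LinearMap.range (Algebra.linearMap A B) := by
      intro x hx
      have : x ∈ (m ^ N) • (⊤ : Submodule A B) := by
        rw [Ideal.smul_top_eq_map]; exact hx
      refine Submodule.smul_induction_on this (fun a ha b _ => ?_) fun x y hx hy => Submodule.add_mem _ hx hy
      obtain ⟨a', ha'⟩ := hN a ha b
      exact ⟨a', ha'⟩
    obtain ⟨a, ha⟩ := h2 _ h1
    refine ⟨a + 1, ?_⟩
    rw [map_add, map_one, show algebraMap A B a = g ^ q * u - 1 from ha, sub_add_cancel]

end Groth.ModelsGraphs.PicDiv
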